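import Mathlib
import Cfsg.Agent.Blk.CoverDict
import Cfsg.Agent.Blk.Pim
import Cfsg.Agent.Blk.Fong
import Cfsg.Agent.Ch.AbelianQuot
import Cfsg.Agent.Deg.Basic

/-!
# Characters and blocks of a subgroup of index two
-/

set_option autoImplicit false

namespace Cfsg.Agent.SnCh

open Finset Module Cfsg.Agent.Ch Cfsg.Agent.Blk

theorem card_le_two_mul_finrank {P V : Type*} [AddCommGroup V] [Module ℂ V] {v : P → V}
    (hv : LinearIndependent ℂ v) {σ : P → P} (hσ : Function.Involutive σ) (S : Finset P)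
    (W : Submodule ℂ V) [FiniteDimensional ℂ W] (h : ∀ a ∈ S, v a + v (σ a) ∈ W) :
    #S ≤ 2 * finrank ℂ W := by
  classical
  have key : ∀ T ⊆ S, (∀ a ∈ T, σ a ∈ T → σ a = a) → #T ≤ finrank ℂ W := fun T hT h1 => by
    have : LinearIndependent ℂ fun a : T => (⟨v a + v (σ a), h a (hT a.2)⟩ : W) := by
      refine LinearIndependent.of_comp W.subtype (Fintype.linearIndependent_iff.2 fun g hg a => ?_)
      have h2 := DFunLike.congr_fun (linearIndependent_iff.1 hv
        (∑ b : T, g b • (Finsupp.single b.1 1 + Finsupp.single (σ b) 1)) (by simpa using hg)) a.1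
      rw [Finsupp.finsetSum_apply, sum_eq_single a _ (by simp)] at h2
      · by_cases e : σ a = a <;> simpa [e] using h2
      · intro b _ hb
        have h3 : σ b ≠ a := fun e => hb (Subtype.ext ((h1 b b.2 (e ▸ a.2)).symm.trans e))
        simp [h3, Subtype.coe_ne_coe.2 hb]
    simpa using this.fintype_card_le_finrank
  let := linearOrderOfSTO (WellOrderingRel (α := P))
  have h1 := key {a ∈ S | a ≤ σ a} (filter_subset _ _) fun a ha hb =>
    le_antisymm (by simpa [hσ a] using (mem_filter.1 hb).2) (mem_filter.1 ha).2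
  have h2 := key {a ∈ S | ¬ a ≤ σ a} (filter_subset _ _) fun a ha hb =>
    absurd (not_le.1 (mem_filter.1 ha).2) (by simpa [hσ a] using (not_le.1 (mem_filter.1 hb).2).le)
  have := card_filter_add_card_filter_not (s := S) (fun a => a ≤ σ a)
  omega

variable {G : Type*} [Group G] [Fintype G] {N : Subgroup G} [N.Normal] [Fintype N]
  {p : ℕ} {M : Ideal AlgInt} {B : Set (IrrCharacter G)} {b : Set (IrrCharacter N)}

theorem res_cases (hN : N.index = 2) {χ : G → ℂ} (hχ : IsIrrCharacter G χ) {θ : N → ℂ}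
    (hθ : IsIrrCharacter N θ) (h : classInner (fun n : N => χ n) θ ≠ 0) :
    (fun n : N => χ n) = θ ∨ ((∀ g ∉ N, χ g = 0) ∧ charDegree χ = 2 * charDegree θ) := by
  by_cases e : inertia N θ ≤ N
  · obtain rfl := (isIrrCharacter_indFun_of_inertia_le hθ e).eq_of_classInner_ne_zero hχ
      (by rwa [classInner_indFun_eq_res N hθ.isCharacter hχ.isCharacter])
    exact .inr ⟨fun g hg => indFun_eq_zero_of_forall_not_mem N θ fun x hx => hg (by
      simpa [mul_assoc] using ‹N.Normal›.conj_mem _ hx x⁻¹),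
      hN ▸ Deg.charDegree_indFun N hθ.isCharacter⟩
  have h1 : inertia N θ = ⊤ := by
    obtain ⟨t, ht, ht'⟩ := SetLike.not_le_iff_exists.1 e
    have h1 := le_inertia hθ.isCharacter.isClassFunction
    refine top_unique fun g _ => by_contra fun hg => hg ?_
    simpa using mul_mem (h1 ((Subgroup.mul_mem_iff_of_index_two hN (a := g) (b := t⁻¹)).2
      (iff_of_false (fun e => hg (h1 e)) (by simpa)))) ht
  obtain ⟨k, h2, h3, h4⟩ := clifford_nat hχ hθ h
  have h5 := sq_le_relIndex_inertia hθ hχ h3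
  rw [h1, Subgroup.relIndex_top_right, hN] at h5
  obtain rfl : k = 1 := by nlinarith
  exact .inl (by simpa [conjugates_of_inertia_eq_top h1] using h4)

omit [Fintype G] [Fintype N] in
theorem conjChar_cases (hN : N.index = 2) {θ : N → ℂ} (hθ : IsClassFunction N θ) {t : G}
    (ht : t ∉ N) (g : G) : conjChar g θ = θ ∨ conjChar g θ = conjChar t θ :=
  (em (g ∈ N)).imp (conjChar_of_mem hθ) fun hg => conjChar_eq_conjChar_iff.2 (le_inertia hθ
    ((Subgroup.mul_mem_iff_of_index_two hN).2 (iff_of_false hg (by simpa))))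

theorem add_conjChar_eq (hN : N.index = 2) {χ : G → ℂ} (hχ : IsIrrCharacter G χ) {θ : N → ℂ}
    (hθ : IsIrrCharacter N θ) (h : classInner (fun n : N => χ n) θ ≠ 0) {t : G} (ht : t ∉ N) :
    ∃ c : ℂ, θ + conjChar t θ = c • fun n : N => χ n := by
  classical
  have h1 : conjugates θ = {θ, conjChar t θ} := by
    ext ψ
    rw [mem_conjugates, mem_insert, mem_singleton]
    exact ⟨by rintro ⟨g, rfl⟩; exact conjChar_cases hN hθ.isCharacter.isClassFunction ht g,
      by rintro (rfl | rfl); exacts [⟨1, by simp⟩, ⟨t, rfl⟩]⟩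
  have h2 := clifford hχ hθ h
  generalize classInner (fun n : N => χ n) θ = c at h h2
  by_cases e : θ = conjChar t θ
  · exact ⟨2 / c, by rw [h2, h1, ← e, pair_eq_singleton, sum_singleton, smul_smul,
      div_mul_cancel₀ _ h, two_smul]⟩
  · exact ⟨c⁻¹, by rw [h2, h1, sum_pair e, smul_smul, inv_mul_cancel₀ h, one_smul]⟩

omit [Fintype G] [Fintype N] [N.Normal] in
theorem pReg_res (χ : G → ℂ) :
    pRegularPart p (fun n : N => χ n) = fun n : N => pRegularPart p χ n := by
  ext n
  by_cases h : p ∣ orderOf n <;> simp [pRegularPart, IsPRegular, h]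

omit [Fintype G] [Fintype N] in
theorem pReg_conjChar (θ : N → ℂ) (t : G) :
    pRegularPart p (conjChar t θ) = conjChar t (pRegularPart p θ) := by
  ext n
  by_cases h : p ∣ orderOf n <;> simp [pRegularPart, IsPRegular, conjChar_eq_comp, h]

omit [N.Normal] [Fintype N] in
theorem blockRank_le_of_res (h : ∀ θ ∈ b, ∃ χ ∈ B, (fun n : N => (χ : G → ℂ) n) = θ) :
    blockRank p b ≤ blockRank p B := by
  refine (Submodule.finrank_mono ?_).trans
    (Submodule.finrank_map_le (LinearMap.funLeft ℂ ℂ ((↑) : N → G)) (regSp p B))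
  rw [Submodule.span_le]
  rintro _ ⟨θ, hθ, rfl⟩
  obtain ⟨χ, hχ, e⟩ := h θ hθ
  exact ⟨_, irr_mem_regSp hχ, by simp only [← e, pReg_res]; rfl⟩

theorem blockRank_le_two_mul (hM : IsPModular p M) (hN : N.index = 2) (hB : IsPBlock M B)
    (hb : IsPBlock M b) (h : Om.Covers N.subtype B b) : blockRank p b ≤ 2 * blockRank p B := by
  classical
  have := hM.isMaximal
  obtain ⟨t, ht⟩ : ∃ t, t ∉ N := by
    by_contra! e
    simp [(Subgroup.eq_top_iff' N).2 e] at hN
  have := (Pim.finite_pims (G := N) hM).fintype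
  have := Pim.finite_pimsIn (B := b) hM
  have := Fintype.ofFinite (Pim.pimsIn M b)
  let σ : Pim.pims N M → Pim.pims N M := fun Φ =>
    ⟨conjChar t Φ, Pim.comp_mem (MulAut.conjNormal t) Φ.2⟩
  have h1 := card_le_two_mul_finrank (Pim.linearIndependent_pims hM) (σ := σ) (fun Φ => by
      ext1
      exact (conjChar_mul _ _ _).symm.trans (conjChar_of_mem
        (Pim.isCharacter_of_mem Φ.2).isClassFunction (Subgroup.mul_self_mem_of_index_two hN t)))
    (univ.map ⟨Set.inclusion (s := Pim.pimsIn M b) fun _ h => h.1, Set.inclusion_injective _⟩)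
    ((regSp p B).map (LinearMap.funLeft ℂ ℂ ((↑) : N → G))) ?_
  · rw [card_map, card_univ, ← finrank_span_eq_card (Pim.linearIndependent_pimsIn hM),
      Subtype.range_coe, Pim.span_pimsIn hM (hb.memLocalRing_blockCoeff hM)] at h1
    exact h1.trans (Nat.mul_le_mul_left _ (Submodule.finrank_map_le _ _))
  simp only [mem_map, mem_univ, true_and, forall_exists_index, forall_apply_eq_imp_iff]
  intro Φ
  have h1 := Pim.mem_regSp_of_mem hM Φ.2
  change Φ.1 + conjChar t Φ.1 ∈ _
  generalize Φ.1 = F at h1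
  induction h1 using Submodule.span_induction with
  | mem F hF =>
    obtain ⟨θ, hθ, rfl⟩ := hF
    obtain ⟨χ, hχ, e⟩ := Cov.exists_over_of_covers hB hb h hθ
    obtain ⟨c, hc⟩ := add_conjChar_eq hN χ.2 θ.2 (Om.over_subtype_iff.1 e) ht
    rw [← pReg_conjChar, ← Om.pRegularPart_add, hc, Om.pRegularPart_smul, pReg_res]
    exact Submodule.smul_mem _ _ ⟨_, irr_mem_regSp hχ, rfl⟩
  | zero => simp
  | add F F' _ _ h1 h2 => rw [conjChar_add, add_add_add_comm]; exact add_mem h1 h2
  | smul c F _ h1 => rw [conjChar_smul, ← smul_add]; exact Submodule.smul_mem _ _ h1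

omit [Fintype N] in
theorem minVal_eq_of_covers (hM : IsPModular p M) (hN : N.index = 2) (hB : IsPBlock M B)
    (hb : IsPBlock M b) (h : Om.Covers N.subtype B b) {P : Subgroup G}
    (hP : IsDefectGroup p M B P) (h2 : p ≠ 2 ∨ ¬ P ≤ N) : Om.minVal p b = Om.minVal p B := by
  have := hM.isMaximal
  have := Fact.mk hM.prime
  have h3 := Cov.card_inf_eq_pow hM hB hb h hP
  have h4 := Om.minVal_add_blockDefect (p := p) hb.nonempty
  have h5 := Om.minVal_add_blockDefect (p := p) hB.nonempty
  have h6 := hP.card_eq_pow_blockDefect hM hB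
  have h7 := N.card_mul_index
  have h8 := (N.subgroupOf P).card_mul_index
  rw [← Subgroup.inf_subgroupOf_left, Nat.card_congr
    (Subgroup.subgroupOfEquivOfLe inf_le_left).toEquiv, Subgroup.inf_subgroupOf_left, h3, h6] at h8
  replace h8 := congrArg (·.factorization p) h8
  rw [← h7, hN, Nat.factorization_mul Nat.card_pos.ne' two_ne_zero] at h5
  simp only [Nat.factorization_mul (pow_ne_zero _ hM.prime.ne_zero)
    Subgroup.index_ne_zero_of_finite, hM.prime.factorization_pow, Finsupp.add_apply,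
    Finsupp.single_eq_same] at h5 h8
  suffices (N.subgroupOf P).index.factorization p = Nat.factorization 2 p by omega
  rcases (Nat.dvd_prime Nat.prime_two).1 (hN ▸ N.relIndex_dvd_index_of_normal P) with e | e
  · rw [Subgroup.relIndex] at e
    simp [e, Nat.prime_two.factorization,
      h2.resolve_right (not_not.2 (Subgroup.relIndex_eq_one.1 e))]
  · rw [← e, Subgroup.relIndex]

end Cfsg.Agent.SnCh
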