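import Mathlib

/-!
# Fock space for the characters of symmetric groups

Functions on exponent vectors `β : ι → ℤ`; `U k` is multiplication by the power sum `p_k`,
`D k` its adjoint.  Heisenberg relation and orthogonality of the vectors `p_ρ a_δ`.
-/

set_option autoImplicit false

namespace Cfsg.Agent.SnCh

open Finset Equiv

/-- Coefficient functions. -/
abbrev V (ι : Type*) := (ι → ℤ) → ℚ

variable {ι : Type*} [Fintype ι] [DecidableEq ι]

/-- The vector `k e_i`. -/
abbrev ee (i : ι) (k : ℤ) : ι → ℤ := Pi.single i k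

/-- Move one bead by `k`, with a weight depending on its final position. -/
def E (φ : ℤ → ℚ) (k : ℤ) : V ι →ₗ[ℚ] V ι where
  toFun F β := ∑ i, φ (β i) * F (β - ee i k)
  map_add' F G := by ext β; simp [mul_add, sum_add_distrib]
  map_smul' c F := by ext β; simp [mul_sum, mul_left_comm]

theorem E_apply (φ : ℤ → ℚ) (k : ℤ) (F : V ι) (β : ι → ℤ) :
    E φ k F β = ∑ i, φ (β i) * F (β - ee i k) := rfl

theorem E_comm (φ ψ : ℤ → ℚ) (k l : ℤ) (F : V ι) :
    E φ k (E ψ l F) = E ψ l (E φ k F) +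
      E (fun x => φ x * ψ (x - k) - ψ x * φ (x - l)) (k + l) F := by
  ext β
  simp only [E_apply, Pi.add_apply, mul_sum]
  rw [sum_comm (f := fun j i => ψ (β j) * (φ ((β - ee j l) i) *
    F (β - ee j l - ee i k))), ← sum_add_distrib]
  refine sum_congr rfl fun i _ => ?_
  rw [← add_sum_erase _ _ (mem_univ i), ← add_sum_erase _ _ (mem_univ i)]
  rw [sum_congr rfl (g := fun j => ψ (β j) * (φ ((β - ee j l) i) *
    F (β - ee j l - ee i k)))]
  · simp only [Pi.sub_apply, Pi.single_eq_same, sub_sub, ← Pi.single_add, add_comm l k]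
    ring
  · intro j hj
    have hj := ne_of_mem_erase hj
    simp only [Pi.sub_apply, Pi.single_eq_of_ne hj, Pi.single_eq_of_ne hj.symm, sub_zero,
      sub_right_comm β (ee i k)]
    ring

theorem E_congr {φ ψ : ℤ → ℚ} {k : ℤ} {F : V ι}
    (h : ∀ β i, F (β - ee i k) ≠ 0 → φ (β i) = ψ (β i)) : E φ k F = E ψ k F := by
  ext β
  refine sum_congr rfl fun i _ => ?_
  by_cases h0 : F (β - ee i k) = 0
  · simp [h0]
  · rw [h β i h0]

theorem E_zero (k : ℤ) (F : V ι) : E (fun _ => 0) k F = 0 := by ext β; simp [E_apply]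

theorem E_sum {κ : Type*} (s : Finset κ) (φ : κ → ℤ → ℚ) (k : ℤ) (F : V ι) :
    E (fun x => ∑ a ∈ s, φ a x) k F = ∑ a ∈ s, E (φ a) k F := by
  ext β
  simp only [E_apply, Finset.sum_apply, sum_mul]
  exact sum_comm

theorem exists_of_E_ne {φ : ℤ → ℚ} {k : ℤ} {F : V ι} {β : ι → ℤ} (h : E φ k F β ≠ 0) :
    ∃ i, φ (β i) ≠ 0 ∧ F (β - ee i k) ≠ 0 := by
  obtain ⟨i, -, hi⟩ := exists_ne_zero_of_sum_ne_zero h
  exact ⟨i, mul_ne_zero_iff.1 hi⟩

/-- The sign of a permutation as a rational number. -/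
def sg (σ : Perm ι) : ℚ := ((Perm.sign σ : ℤ) : ℚ)

@[simp] theorem sg_one : sg (1 : Perm ι) = 1 := by simp [sg]
theorem sg_mul (σ τ : Perm ι) : sg (σ * τ) = sg σ * sg τ := by simp [sg]
@[simp] theorem sg_inv (σ : Perm ι) : sg σ⁻¹ = sg σ := by simp [sg]
theorem sg_mul_self (σ : Perm ι) : sg σ * sg σ = 1 := by
  rw [sg, ← Int.cast_mul, ← Units.val_mul, Int.units_mul_self]; simp
theorem sg_swap {i j : ι} (h : i ≠ j) : sg (swap i j) = -1 := by simp [sg, h]
theorem sg_cases (σ : Perm ι) : sg σ = 1 ∨ sg σ = -1 := by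
  rcases Int.units_eq_one_or (Perm.sign σ) with h | h <;> simp [sg, h]
theorem sg_ne_zero (σ : Perm ι) : sg σ ≠ 0 := by
  rcases sg_cases σ with h | h <;> simp [h]

/-- Antisymmetric functions. -/
def Anti (F : V ι) : Prop := ∀ β (σ : Perm ι), F (β ∘ σ) = sg σ * F β

theorem Anti.injective {F : V ι} (hF : Anti F) {β : ι → ℤ} (h : F β ≠ 0) :
    Function.Injective β := by
  intro i j hij
  by_contra hne
  have h1 : β ∘ swap i j = β := by
    ext x
    simp only [Function.comp_apply, swap_apply_def]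
    split_ifs with h1 h2
    · rw [h1, hij]
    · rw [h2, hij]
    · rfl
  have h2 := hF β (swap i j)
  rw [h1, sg_swap hne] at h2
  exact h (by linarith)

omit [Fintype ι] in
theorem sub_single_comp (β : ι → ℤ) (σ : Perm ι) (i : ι) (k : ℤ) :
    β ∘ σ - ee i k = (β - ee (σ i) k) ∘ σ := by
  ext x
  by_cases h : x = i
  · simp [h]
  · simp [Pi.single_eq_of_ne h, Pi.single_eq_of_ne (σ.injective.ne h)]

theorem Anti.E {F : V ι} (hF : Anti F) (φ : ℤ → ℚ) (k : ℤ) : Anti (E φ k F) := by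
  intro β σ
  simp only [E_apply, sub_single_comp, hF _ σ, Function.comp_apply, mul_sum]
  rw [← Equiv.sum_comp σ fun i => sg σ * (φ (β i) * F (β - ee i k))]
  exact sum_congr rfl fun i _ => by ring

/-- Valid exponent vectors. -/
def Val (β : ι → ℤ) : Prop := Function.Injective β ∧ ∀ i, 0 ≤ β i

omit [Fintype ι] [DecidableEq ι] in
theorem Val.comp {β : ι → ℤ} (h : Val β) (σ : Perm ι) : Val (β ∘ σ) :=
  ⟨h.1.comp σ.injective, fun _ => h.2 _⟩

/-- Antisymmetric polynomials of total degree `m`. -/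
def Sp (ι : Type*) [Fintype ι] [DecidableEq ι] (m : ℤ) : Submodule ℚ (V ι) where
  carrier := {F | Anti F ∧ ∀ β, F β ≠ 0 → (∀ i, 0 ≤ β i) ∧ ∑ i, β i = m}
  zero_mem' := ⟨fun _ _ => by simp, fun _ h => (h rfl).elim⟩
  add_mem' {F G} hF hG := ⟨fun β σ => by simp [hF.1 β σ, hG.1 β σ, mul_add], fun β h => by
    by_cases h0 : F β = 0
    · exact hG.2 β (by simpa [h0] using h)
    · exact hF.2 β h0⟩
  smul_mem' c F hF := ⟨fun β σ => by simp [hF.1 β σ, mul_left_comm], fun β h =>
    hF.2 β (right_ne_zero_of_mul h)⟩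

variable {m : ℤ} {F G : V ι}

theorem Sp.val (hF : F ∈ Sp ι m) {β : ι → ℤ} (h : F β ≠ 0) : Val β :=
  ⟨hF.1.injective h, (hF.2 β h).1⟩

theorem Sp.sum (hF : F ∈ Sp ι m) {β : ι → ℤ} (h : F β ≠ 0) : ∑ i, β i = m := (hF.2 β h).2

theorem sum_sub_single (β : ι → ℤ) (i : ι) (k : ℤ) :
    ∑ j, (β - (ee i k)) j = ∑ j, β j - k := by
  simp [sum_sub_distrib]

theorem Sp.E (hF : F ∈ Sp ι m) {φ : ℤ → ℚ} {k : ℤ} (h : ∀ x, φ x ≠ 0 → 0 ≤ x - k → 0 ≤ x) :
    E φ k F ∈ Sp ι (m + k) := by
  refine ⟨hF.1.E φ k, fun β hβ => ?_⟩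
  obtain ⟨i, h1, h2⟩ := exists_of_E_ne hβ
  obtain ⟨h3, h4⟩ := hF.2 _ h2
  refine ⟨fun j => ?_, by rw [sum_sub_single] at h4; omega⟩
  by_cases hj : j = i
  · subst hj; exact h _ h1 (by simpa using h3 j)
  · simpa [Pi.single_eq_of_ne hj] using h3 j

/-- The least degree of a valid vector. -/
def tri (n : ℕ) : ℤ := ∑ i ∈ range n, (i : ℤ)

theorem tri_succ (n : ℕ) : tri (n + 1) = tri n + n := sum_range_succ _ _

omit [DecidableEq ι] in
theorem Val.tri_le {β : ι → ℤ} (h : Val β) : tri (Fintype.card ι) ≤ ∑ i, β i := by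
  have h1 := Finset.sum_range_le_sum (s := univ.image β) (c := 0) (by
    intro x hx; obtain ⟨i, -, rfl⟩ := mem_image.1 hx; exact h.2 i)
  rw [card_image_of_injective _ h.1, sum_image fun a _ b _ e => h.1 e] at h1
  simpa [tri] using h1

omit [DecidableEq ι] in
theorem Val.packed {β : ι → ℤ} (h : Val β) {x : ℤ} (h0 : 0 ≤ x)
    (hx : x + ∑ i, β i < tri (Fintype.card ι) + Fintype.card ι) : ∃ i, β i = x := by
  by_contra hn
  have hn' : x ∉ univ.image β := fun e => by
    obtain ⟨i, -, e⟩ := mem_image.1 e; exact hn ⟨i, e⟩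
  have h1 := Finset.sum_range_le_sum (s := insert x (univ.image β)) (c := 0) (by
    intro y hy
    rcases mem_insert.1 hy with rfl | hy
    · exact h0
    · obtain ⟨i, -, rfl⟩ := mem_image.1 hy; exact h.2 i)
  rw [card_insert_of_notMem hn', sum_insert hn', card_image_of_injective _ h.1,
    sum_image fun a _ b _ e => h.1 e] at h1
  have h2 := tri_succ (Fintype.card ι)
  simp only [tri, zero_add, card_univ] at h1 h2 hx
  omega

theorem Sp.eq_zero (hF : F ∈ Sp ι m) (h : m < tri (Fintype.card ι)) : F = 0 := by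
  ext β
  by_contra h0
  have h1 := (Sp.val hF h0).tri_le
  rw [Sp.sum hF h0] at h1
  omega

/-- Multiplication by the power sum `p_k`. -/
def U (k : ℤ) : V ι →ₗ[ℚ] V ι := E (fun _ => 1) k

/-- The adjoint of `U k`. -/
def D (k : ℤ) : V ι →ₗ[ℚ] V ι := E (fun x => if 0 ≤ x then 1 else 0) (-k)

theorem U_apply (k : ℤ) (F : V ι) (β : ι → ℤ) : U k F β = ∑ i, F (β - ee i k) := by
  simp [U, E_apply]

theorem U_comm (k l : ℤ) (F : V ι) : U k (U l F) = U l (U k F) := by
  rw [U, U, E_comm]; simp [E_zero]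

theorem Sp.U (hF : F ∈ Sp ι m) {k : ℤ} (hk : 0 ≤ k) : U k F ∈ Sp ι (m + k) :=
  Sp.E hF fun _ _ h => by omega

theorem Sp.D (hF : F ∈ Sp ι m) (k : ℤ) : D k F ∈ Sp ι (m - k) :=
  Sp.E hF fun x h _ => by by_contra h'; simp [h'] at h

/-- The Heisenberg relation. -/
theorem D_U (hF : F ∈ Sp ι m) {l : ℕ} (hl : l + m ≤ tri (Fintype.card ι) + Fintype.card ι)
    (k : ℤ) : D k (U l F) = U l (D k F) + if k = l then (l : ℚ) • F else 0 := by
  rw [D, U, E_comm]
  congr 1
  have e : (fun x : ℤ => (if 0 ≤ x then (1 : ℚ) else 0) * 1 - 1 * if 0 ≤ x - l then 1 else 0) =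
      fun x => if x ∈ Ico (0 : ℤ) l then 1 else 0 := by
    ext x
    simp only [mem_Ico]
    split_ifs <;> first | simp; done | omega
  rw [e]
  ext β
  split_ifs with hk
  · subst hk
    simp only [E_apply, neg_add_cancel, Pi.single_zero, sub_zero, ← sum_mul, Pi.smul_apply,
      smul_eq_mul]
    by_cases h0 : F β = 0
    · simp [h0]
    congr 1
    have hv := Sp.val hF h0
    rw [sum_boole]
    have : (univ.filter fun i => β i ∈ Ico (0 : ℤ) l).image β = Ico (0 : ℤ) l := by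
      ext x
      simp only [mem_image, mem_filter, mem_univ, true_and]
      refine ⟨fun ⟨i, hi, e⟩ => e ▸ hi, fun hx => ?_⟩
      obtain ⟨i, rfl⟩ := hv.packed (mem_Ico.1 hx).1
        (by rw [Sp.sum hF h0]; have := (mem_Ico.1 hx).2; omega)
      exact ⟨i, hx, rfl⟩
    have h2 := congrArg card this
    rw [card_image_of_injective _ hv.1] at h2
    rw [h2]; simp
  · by_contra h0
    have hinj := (hF.1.E _ _).injective h0
    obtain ⟨i, h1, h2⟩ := exists_of_E_ne h0
    have h1 : β i ∈ Ico (0 : ℤ) l := by by_contra h; simp only [h, if_false] at h1; exact h1 rfl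
    obtain ⟨j, hj⟩ := (Sp.val hF h2).packed (mem_Ico.1 h1).1
      (by rw [Sp.sum hF h2]; have := (mem_Ico.1 h1).2; omega)
    by_cases hij : j = i
    · subst hij
      simp only [Pi.sub_apply, Pi.single_eq_same] at hj
      omega
    · simp only [Pi.sub_apply, Pi.single_eq_of_ne hij, sub_zero] at hj
      exact hij (hinj hj)

instance : LeftCommutative fun (k : ℕ) (T : V ι →ₗ[ℚ] V ι) => U (k : ℤ) ∘ₗ T :=
  ⟨fun _ _ _ => LinearMap.ext fun _ => U_comm _ _ _⟩

/-- Multiplication by the product of power sums `p_ρ`. -/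
def pw (ρ : Multiset ℕ) : V ι →ₗ[ℚ] V ι :=
  ρ.foldr (fun (k : ℕ) (T : V ι →ₗ[ℚ] V ι) => U (k : ℤ) ∘ₗ T) LinearMap.id

@[simp] theorem pw_zero (F : V ι) : pw 0 F = F := rfl

theorem pw_cons (k : ℕ) (ρ : Multiset ℕ) (F : V ι) : pw (k ::ₘ ρ) F = U k (pw ρ F) := by
  rw [pw, Multiset.foldr_cons]; rfl

theorem pw_add (ρ σ : Multiset ℕ) (F : V ι) : pw (ρ + σ) F = pw ρ (pw σ F) := by
  induction ρ using Multiset.induction_on with
  | empty => simp
  | cons k ρ ih => rw [Multiset.cons_add, pw_cons, pw_cons, ih]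

theorem Sp.pw (hF : F ∈ Sp ι m) (ρ : Multiset ℕ) : pw ρ F ∈ Sp ι (m + ρ.sum) := by
  induction ρ using Multiset.induction_on with
  | empty => simpa using hF
  | cons k ρ ih =>
    rw [pw_cons]
    convert Sp.U ih (Int.natCast_nonneg k) using 2
    simp only [Multiset.sum_cons, Nat.cast_add]; ring

theorem D_pw (hF : F ∈ Sp ι (tri (Fintype.card ι))) {k : ℕ} (hk : 0 < k) {ρ : Multiset ℕ}
    (hρ : ρ.sum ≤ Fintype.card ι) :
    D k (pw ρ F) = ((k : ℚ) * ρ.count k) • pw (ρ.erase k) F := by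
  induction ρ using Multiset.induction_on with
  | empty => simpa using Sp.eq_zero (Sp.D hF k) (by omega)
  | cons l ρ ih =>
    rw [Multiset.sum_cons] at hρ
    rw [pw_cons, D_U (Sp.pw hF ρ) (by omega), ih (by omega), map_smul]
    by_cases hkl : k = l
    · subst hkl
      rw [if_pos rfl, Multiset.erase_cons_head, Multiset.count_cons_self]
      by_cases hm : k ∈ ρ
      · rw [← pw_cons, Multiset.cons_erase hm, ← add_smul]; push_cast; ring_nf
      · simp [Multiset.count_eq_zero_of_notMem hm]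
    · rw [if_neg (by omega), add_zero, Multiset.erase_cons_tail _ (Ne.symm hkl), pw_cons,
        Multiset.count_cons_of_ne hkl]

/-! ### The inner product -/

/-- The standard inner product. -/
noncomputable def ip (F G : V ι) : ℚ := ∑ᶠ β, F β * G β

theorem Sp.subset (hF : F ∈ Sp ι m) :
    Function.support F ⊆ (Fintype.piFinset fun _ : ι => Icc 0 m : Finset (ι → ℤ)) := by
  intro β h
  obtain ⟨h1, h2⟩ := hF.2 β h
  simp only [Fintype.coe_piFinset, coe_Icc, Set.mem_pi, Set.mem_univ, Set.mem_Icc, forall_const]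
  exact fun i => ⟨h1 i, h2 ▸ single_le_sum (fun j _ => h1 j) (mem_univ i)⟩

theorem Sp.finite (hF : F ∈ Sp ι m) : (Function.support F).Finite :=
  (Finset.finite_toSet _).subset (Sp.subset hF)

instance (m : ℤ) : FiniteDimensional ℚ (Sp ι m) := by
  let s : Finset (ι → ℤ) := Fintype.piFinset fun _ : ι => Icc 0 m
  let f : Sp ι m →ₗ[ℚ] (s → ℚ) := (LinearMap.funLeft ℚ ℚ Subtype.val).comp (Sp ι m).subtype
  refine Module.Finite.of_injective f (LinearMap.ker_eq_bot.1 (LinearMap.ker_eq_bot'.2 ?_))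
  intro F hF
  ext β
  by_contra h
  exact h (congrFun hF ⟨β, Sp.subset F.2 h⟩)

omit [Fintype ι] [DecidableEq ι] in
theorem ip_comm (F G : V ι) : ip F G = ip G F := finsum_congr fun _ => mul_comm _ _

omit [Fintype ι] [DecidableEq ι] in
theorem ip_smul_right (F G : V ι) (c : ℚ) : ip F (c • G) = c * ip F G := by
  rw [ip, ip, mul_finsum]
  exact finsum_congr fun _ => by simp [mul_left_comm]

theorem ip_E (hF : (Function.support F).Finite) (φ : ℤ → ℚ) (k : ℤ) (G : V ι) :
    ip (E φ k F) G = ip F (E (fun x => φ (x + k)) (-k) G) := by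
  simp only [ip, E_apply, sum_mul, mul_sum]
  rw [finsum_sum_comm, finsum_sum_comm]
  · refine sum_congr rfl fun i _ => ?_
    rw [← finsum_comp_equiv (Equiv.addRight (ee i k))]
    refine finsum_congr fun β => ?_
    simp only [coe_addRight, Pi.add_apply, Pi.single_eq_same, add_sub_cancel_right, Pi.single_neg,
      sub_neg_eq_add]
    ring
  · exact fun i _ => hF.subset fun β h => left_ne_zero_of_mul h
  · intro i _
    refine (hF.image (· + (ee i k))).subset fun β h => ?_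
    exact ⟨_, right_ne_zero_of_mul (left_ne_zero_of_mul h), by simp⟩

theorem ip_U (hF : F ∈ Sp ι m) (k : ℤ) (G : V ι) : ip (U k F) G = ip F (D k G) := by
  rw [U, ip_E (Sp.finite hF)]
  refine finsum_congr fun β => ?_
  by_cases h0 : F β = 0
  · simp [h0]
  · simp [D, E_apply, (hF.2 β h0).1]

/-- The centraliser order attached to a cycle type. -/
def zee (ρ : Multiset ℕ) : ℕ := ρ.prod * ∏ k ∈ ρ.toFinset, (ρ.count k).factorial

theorem zee_cons (k : ℕ) (ρ : Multiset ℕ) : zee (k ::ₘ ρ) = k * (ρ.count k + 1) * zee ρ := by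
  have h : ∀ σ : Multiset ℕ, ∏ j ∈ σ.toFinset, (σ.count j).factorial =
      (σ.count k).factorial * ∏ j ∈ σ.toFinset.erase k, (σ.count j).factorial := by
    intro σ
    by_cases hk : k ∈ σ
    · rw [mul_prod_erase _ (fun j => (σ.count j).factorial) (Multiset.mem_toFinset.2 hk)]
    · rw [erase_eq_of_notMem (by simpa using hk), Multiset.count_eq_zero_of_notMem hk]; simp
  rw [zee, zee, h, h ρ, Multiset.toFinset_cons, erase_insert_eq_erase, Multiset.prod_cons,
    Multiset.count_cons_self, Nat.factorial_succ,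
    prod_congr rfl fun j hj => by rw [Multiset.count_cons_of_ne (ne_of_mem_erase hj)]]
  ring

theorem ip_pw (hF : F ∈ Sp ι (tri (Fintype.card ι))) {ρ σ : Multiset ℕ} (hρ : 0 ∉ ρ) (hσ : 0 ∉ σ)
    (h : ρ.sum = σ.sum) (hN : σ.sum ≤ Fintype.card ι) :
    ip (pw ρ F) (pw σ F) = if ρ = σ then zee ρ * ip F F else 0 := by
  induction ρ using Multiset.induction_on generalizing σ with
  | empty =>
    have : σ = 0 := Multiset.eq_zero_of_forall_notMem fun a ha => by
      have h1 := Multiset.single_le_sum (fun _ _ => Nat.zero_le _) a ha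
      obtain rfl : a = 0 := by simp at h; omega
      exact hσ ha
    simp [this, zee]
  | cons k ρ ih =>
    have hk : 0 < k := Nat.pos_of_ne_zero fun e => hρ (by simp [e])
    rw [pw_cons, ip_U (Sp.pw hF ρ), D_pw hF hk hN, ip_smul_right]
    by_cases hm : k ∈ σ
    · obtain ⟨σ, rfl⟩ := Multiset.exists_cons_of_mem hm
      simp only [Multiset.sum_cons, Multiset.mem_cons, not_or] at h hN hρ hσ
      rw [Multiset.erase_cons_head, ih hρ.2 hσ.2 (by omega) (by omega)]
      simp only [Multiset.cons_inj_right]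
      split_ifs with e
      · subst e; rw [zee_cons, Multiset.count_cons_self]; push_cast; ring
      · simp
    · rw [Multiset.count_eq_zero_of_notMem hm, if_neg fun e => hm (by rw [← e]; exact Multiset.mem_cons_self _ _)]
      simp

/-! ### Alternants -/

/-- The alternant `a_v`. -/
def alt (v : ι → ℤ) : V ι := fun β => ∑ σ : Perm ι, if β = v ∘ σ then sg σ else 0

theorem anti_alt (v : ι → ℤ) : Anti (alt v) := by
  intro β τ
  rw [alt, alt, mul_sum, ← Equiv.sum_comp (Equiv.mulRight τ)]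
  refine sum_congr rfl fun σ _ => ?_
  have : β ∘ τ = v ∘ (σ * τ : Perm ι) ↔ β = v ∘ σ :=
    ⟨fun h => funext fun x => by simpa using congrFun h (τ⁻¹ x), fun h => by rw [h]; rfl⟩
  simp only [coe_mulRight, this, sg_mul]
  split_ifs <;> simp [mul_comm]

theorem exists_of_alt_ne {v β : ι → ℤ} (h : alt v β ≠ 0) : ∃ σ : Perm ι, β = v ∘ σ := by
  obtain ⟨σ, -, hσ⟩ := exists_ne_zero_of_sum_ne_zero h
  exact ⟨σ, by by_contra h'; simp [h'] at hσ⟩

theorem alt_mem {v : ι → ℤ} (hv : ∀ i, 0 ≤ v i) : alt v ∈ Sp ι (∑ i, v i) := by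
  refine ⟨anti_alt v, fun β h => ?_⟩
  obtain ⟨σ, rfl⟩ := exists_of_alt_ne h
  exact ⟨fun i => hv _, Equiv.sum_comp σ v⟩

theorem alt_self {v : ι → ℤ} (hv : Function.Injective v) : alt v v = 1 := by
  rw [alt, sum_eq_single 1]
  · simp
  · intro σ _ h
    exact if_neg fun e => h (Perm.ext fun x => (hv (congrFun e x)).symm)
  · simp

theorem eq_smul_alt (hF : Anti F) {v : ι → ℤ} (hv : Function.Injective v)
    (h : ∀ β, F β ≠ 0 → ∃ σ : Perm ι, β = v ∘ σ) : F = F v • alt v := by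
  ext β
  by_cases hβ : ∃ σ : Perm ι, β = v ∘ σ
  · obtain ⟨σ, rfl⟩ := hβ
    rw [Pi.smul_apply, hF, anti_alt, alt_self hv]; simp [mul_comm]
  · have h1 : F β = 0 := by by_contra h'; exact hβ (h β h')
    have h2 : alt v β = 0 := by by_contra h'; exact hβ (exists_of_alt_ne h')
    simp [h1, h2]

/-- Integer valued functions. -/
def IsInt (F : V ι) : Prop := ∀ β, ∃ z : ℤ, F β = z

theorem isInt_alt (v : ι → ℤ) : IsInt (alt v) := fun β =>
  ⟨∑ σ : Perm ι, if β = v ∘ σ then (Perm.sign σ : ℤ) else 0, by simp [alt, sg]⟩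

theorem IsInt.U (hF : IsInt F) (k : ℤ) : IsInt (U k F) := fun β => by
  choose z hz using hF
  exact ⟨∑ i, z (β - ee i k), by simp [U_apply, hz]⟩

theorem IsInt.pw (hF : IsInt F) (ρ : Multiset ℕ) : IsInt (pw ρ F) := by
  induction ρ using Multiset.induction_on with
  | empty => exact hF
  | cons k ρ ih => rw [pw_cons]; exact ih.U k

end Cfsg.Agent.SnCh
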