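import Mathlib
import Cfsg.Agent.SnCh.Fock

/-!
# The `p`-abacus: cores, weights, runner operators and the bound for `l(B)`
-/

set_option autoImplicit false

namespace Cfsg.Agent.SnCh

open Finset Equiv Module

variable {ι : Type*} [Fintype ι] {p : ℕ} {β γ : ι → ℤ}

/-- The number of beads below bead `i` on its runner. -/
def rk (p : ℕ) (β : ι → ℤ) (i : ι) : ℕ := #{j | β j % p = β i % p ∧ β j < β i}

/-- The number of beads on runner `r`. -/
def cnt (p : ℕ) (β : ι → ℤ) (r : ℤ) : ℕ := #{i | β i % p = r}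

/-- Slide all beads down their runners. -/
def core (p : ℕ) (β : ι → ℤ) : ι → ℤ := fun i => β i % p + p * rk p β i

/-- The `p`-weight. -/
def wt (p : ℕ) (β : ι → ℤ) : ℤ := ∑ i, (β i / p - rk p β i)

theorem div_lt_div_of_emod (hp : 0 < p) {x y : ℤ} (h : x % p = y % p) : x / p < y / p ↔ x < y := by
  have hp' : (0 : ℤ) < p := by exact_mod_cast hp
  have h1 := Int.emod_add_mul_ediv x p
  have h2 := Int.emod_add_mul_ediv y p
  constructor
  · intro e; nlinarith
  · intro e; by_contra e'; nlinarith [not_lt.1 e']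

theorem eq_of_emod_of_div {x y : ℤ} (h : x % p = y % p) (h' : x / p = y / p) : x = y := by
  rw [← Int.emod_add_mul_ediv x p, h, h', Int.emod_add_mul_ediv]

theorem Val.rk_le (hp : 0 < p) (h : Val β) (i : ι) : (rk p β i : ℤ) ≤ β i / p := by
  have hp' : (0 : ℤ) < p := by exact_mod_cast hp
  have h1 : rk p β i ≤ #(Ico 0 (β i / p)) := by
    refine card_le_card_of_injOn (fun j => β j / p) (fun j hj => ?_) fun j hj k hk e => ?_
    · simp only [coe_filter, mem_univ, true_and, Set.mem_ofPred_eq] at hj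
      simp only [coe_Ico, Set.mem_Ico]
      exact ⟨Int.ediv_nonneg (h.2 j) hp'.le, (div_lt_div_of_emod hp hj.1).2 hj.2⟩
    · simp only [coe_filter, mem_univ, true_and, Set.mem_ofPred_eq] at hj hk
      exact h.1 (eq_of_emod_of_div (hj.1.trans hk.1.symm) e)
  have h2 := Int.ediv_nonneg (h.2 i) hp'.le
  rw [Int.card_Ico] at h1
  omega

theorem rk_lt_cnt (β : ι → ℤ) (i : ι) : rk p β i < cnt p β (β i % p) :=
  card_lt_card ⟨fun j hj => by simp only [mem_filter] at hj ⊢; exact ⟨hj.1, hj.2.1⟩,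
    fun h => by simpa using @h i (by simp)⟩

theorem rk_lt_rk {i j : ι} (h : β i % p = β j % p) (h' : β i < β j) : rk p β i < rk p β j :=
  card_lt_card ⟨fun k hk => by
    simp only [mem_filter] at hk ⊢; exact ⟨hk.1, hk.2.1.trans h, hk.2.2.trans h'⟩,
    fun e => by simpa using @e i (by simp [h, h'])⟩

theorem rk_lt_rk_iff {i j : ι} (h : β i % p = β j % p) : rk p β i < rk p β j ↔ β i < β j := by
  refine ⟨fun e => ?_, rk_lt_rk h⟩
  rcases lt_trichotomy (β i) (β j) with h' | h' | h'
  · exact h'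
  · simp [rk, h'] at e
  · have := rk_lt_rk h.symm h'; omega

theorem rk_inj (hβ : Function.Injective β) {i j : ι} (h : β i % p = β j % p)
    (h' : rk p β i = rk p β j) : i = j := by
  rcases lt_trichotomy (β i) (β j) with e | e | e
  · have := rk_lt_rk h e; omega
  · exact hβ e
  · have := rk_lt_rk h.symm e; omega

theorem exists_rk (hβ : Function.Injective β) {r : ℤ} {t : ℕ} (ht : t < cnt p β r) :
    ∃ i, β i % p = r ∧ rk p β i = t := by
  have h := surjOn_of_injOn_of_card_le (s := univ.filter fun i => β i % p = r)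
    (t := range (cnt p β r)) (rk p β) (fun i hi => ?_) (fun i hi j hj e => ?_) (by simp [cnt])
  · obtain ⟨i, hi, e⟩ := h (by simpa using ht : t ∈ (range (cnt p β r) : Set ℕ))
    exact ⟨i, by simpa using hi, e⟩
  · simp only [coe_filter, mem_univ, true_and, Set.mem_ofPred_eq] at hi
    simpa [← hi] using rk_lt_cnt β i
  · simp only [coe_filter, mem_univ, true_and, Set.mem_ofPred_eq] at hi hj
    exact rk_inj hβ (hi.trans hj.symm) e

theorem core_emod (β : ι → ℤ) (i : ι) : core p β i % p = β i % p := by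
  simp [core]

theorem core_div (hp : 0 < p) (β : ι → ℤ) (i : ι) : core p β i / p = rk p β i := by
  have hp' : (0 : ℤ) < p := by exact_mod_cast hp
  rw [core, Int.add_mul_ediv_left _ _ hp'.ne', Int.ediv_eq_zero_of_lt (Int.emod_nonneg _ hp'.ne')
    (Int.emod_lt_of_pos _ hp'), zero_add]

theorem cnt_core (β : ι → ℤ) : cnt p (core p β) = cnt p β := by
  ext r; simp [cnt, core_emod]

theorem Val.core (hp : 0 < p) (h : Val β) : Val (core p β) := by
  have hp' : (0 : ℤ) < p := by exact_mod_cast hp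
  refine ⟨fun i j e => rk_inj h.1 (p := p) (by rw [← core_emod, e, core_emod]) ?_, fun i => ?_⟩
  · have := core_div hp β i
    rw [e, core_div hp] at this
    omega
  · have := Int.emod_nonneg (β i) hp'.ne'
    rw [SnCh.core]; positivity

theorem mem_range_core (hp : 0 < p) (h : Function.Injective β) {x : ℤ} :
    (∃ i, core p β i = x) ↔ 0 ≤ x / p ∧ x / p < cnt p β (x % p) := by
  constructor
  · rintro ⟨i, rfl⟩
    rw [core_div hp, core_emod]
    exact ⟨by positivity, by exact_mod_cast rk_lt_cnt β i⟩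
  · rintro ⟨h1, h2⟩
    obtain ⟨i, h3, h4⟩ := exists_rk (p := p) h (r := x % p) (t := (x / p).toNat) (by omega)
    exact ⟨i, eq_of_emod_of_div (p := p) (by rw [core_emod, h3]) (by rw [core_div hp]; omega)⟩

theorem exists_perm_of_range (hγ : Function.Injective γ)
    (h : ∀ i, ∃ j, β j = γ i) : ∃ σ : Perm ι, γ = β ∘ σ := by
  choose f hf using h
  have hf' : Function.Injective f := fun i j e => hγ (by rw [← hf, e, hf])
  exact ⟨Equiv.ofBijective f (Finite.injective_iff_bijective.1 hf'), funext fun i => (hf i).symm⟩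

theorem exists_perm_core (hp : 0 < p) (hβ : Val β) (hγ : Val γ) (h : cnt p γ = cnt p β) :
    ∃ σ : Perm ι, core p γ = core p β ∘ σ :=
  exists_perm_of_range (hγ.core hp).1 fun i =>
    (mem_range_core hp hβ.1).2 (h ▸ (mem_range_core hp hγ.1).1 ⟨i, rfl⟩)

theorem sum_eq_core (β : ι → ℤ) : ∑ i, β i = ∑ i, core p β i + p * wt p β := by
  rw [wt, mul_sum, ← sum_add_distrib]
  refine sum_congr rfl fun i _ => ?_
  rw [core]
  linear_combination -Int.emod_add_mul_ediv (β i) p

theorem sum_core_eq (hp : 0 < p) (hβ : Val β) (hγ : Val γ) (h : cnt p γ = cnt p β) :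
    ∑ i, core p γ i = ∑ i, core p β i := by
  obtain ⟨σ, e⟩ := exists_perm_core hp hβ hγ h
  rw [e]; exact Equiv.sum_comp σ _

theorem Val.wt_nonneg (hp : 0 < p) (h : Val β) : 0 ≤ wt p β :=
  sum_nonneg fun i _ => sub_nonneg.2 (h.rk_le hp i)

theorem Val.core_eq (hp : 0 < p) (h : Val β) (h0 : wt p β = 0) : SnCh.core p β = β := by
  ext i
  have := (sum_eq_zero_iff_of_nonneg fun i _ => sub_nonneg.2 (h.rk_le hp i)).1 h0 i (mem_univ i)
  exact eq_of_emod_of_div (p := p) (core_emod β i) (by rw [core_div hp]; omega)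

theorem wt_eq (hp : 0 < p) (hβ : Val β) (hγ : Val γ) (h : cnt p γ = cnt p β) {w : ℤ}
    (hw : ∑ i, γ i = ∑ i, core p β i + p * w) : wt p γ = w := by
  have hp' : (p : ℤ) ≠ 0 := by exact_mod_cast hp.ne'
  rw [sum_eq_core (p := p), sum_core_eq hp hβ hγ h] at hw
  exact mul_left_cancel₀ hp' (by omega)

variable [DecidableEq ι] {m : ℤ} {F : V ι}

theorem cnt_sub (β : ι → ℤ) (i : ι) {k : ℤ} (hk : (p : ℤ) ∣ k) : cnt p (β - ee i k) = cnt p β := by
  ext r
  refine congrArg card (filter_congr fun j _ => ?_)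
  by_cases h : j = i
  · subst h
    obtain ⟨c, rfl⟩ := hk
    simp
  · simp [Pi.single_eq_of_ne h]

omit [DecidableEq ι] in
theorem cnt_comp (β : ι → ℤ) (σ : Perm ι) : cnt p (β ∘ σ) = cnt p β :=
  funext fun _ => card_equiv σ (by simp)

open Classical in
/-- The projection to the vectors with given runner counts. -/
noncomputable def proj (p : ℕ) (c : ℤ → ℕ) : V ι →ₗ[ℚ] V ι where
  toFun F β := if cnt p β = c then F β else 0
  map_add' F G := by ext β; simp only [Pi.add_apply]; split_ifs <;> simp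
  map_smul' a F := by ext β; simp

omit [DecidableEq ι] in
open Classical in
theorem proj_apply (c : ℤ → ℕ) (F : V ι) (β : ι → ℤ) :
    proj p c F β = if cnt p β = c then F β else 0 := rfl

theorem proj_E (c : ℤ → ℕ) (φ : ℤ → ℚ) {k : ℤ} (hk : (p : ℤ) ∣ k) (F : V ι) :
    proj p c (E φ k F) = E φ k (proj p c F) := by
  ext β
  rw [proj_apply, E_apply, E_apply]
  split_ifs with h
  · exact sum_congr rfl fun i _ => by rw [proj_apply, cnt_sub β _ hk, if_pos h]
  · exact (sum_eq_zero fun i _ => by rw [proj_apply, cnt_sub β _ hk, if_neg h, mul_zero]).symm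

/-- The part of `Sp` with given runner counts. -/
def Sc (p : ℕ) (c : ℤ → ℕ) (m : ℤ) : Submodule ℚ (V ι) where
  carrier := {F | F ∈ Sp ι m ∧ ∀ β, F β ≠ 0 → cnt p β = c}
  zero_mem' := ⟨zero_mem _, fun _ h => (h rfl).elim⟩
  add_mem' {F G} hF hG := ⟨add_mem hF.1 hG.1, fun β h => by
    by_cases h0 : F β = 0
    · exact hG.2 β (by simpa [h0] using h)
    · exact hF.2 β h0⟩
  smul_mem' a F hF := ⟨Submodule.smul_mem _ a hF.1, fun β h => hF.2 β (right_ne_zero_of_mul h)⟩

theorem Sp.proj (hF : F ∈ Sp ι m) (c : ℤ → ℕ) : proj p c F ∈ Sc p c m := by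
  have h : ∀ β, SnCh.proj p c F β ≠ 0 → cnt p β = c ∧ F β ≠ 0 := fun β h => by
    rw [proj_apply] at h
    split_ifs at h with e
    · exact ⟨e, h⟩
    · exact (h rfl).elim
  refine ⟨⟨fun β σ => ?_, fun β e => hF.2 β (h β e).2⟩, fun β e => (h β e).1⟩
  rw [proj_apply, proj_apply, cnt_comp, hF.1 β σ]
  split_ifs <;> simp

theorem Sc.E {c : ℤ → ℕ} (hF : F ∈ Sc p c m) {φ : ℤ → ℚ} {k : ℤ} (hk : (p : ℤ) ∣ k)
    (h : ∀ x, φ x ≠ 0 → 0 ≤ x - k → 0 ≤ x) : E φ k F ∈ Sc p c (m + k) :=
  ⟨Sp.E hF.1 h, fun β e => by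
    obtain ⟨i, -, hi⟩ := exists_of_E_ne e
    rw [← hF.2 _ hi, cnt_sub β i hk]⟩

theorem Sc.wt (hp : 0 < p) (hβ : Val β) {w : ℤ}
    (hF : F ∈ Sc p (cnt p β) (∑ i, core p β i + p * w)) (h : F γ ≠ 0) : wt p γ = w :=
  wt_eq hp hβ (Sp.val hF.1 h) (hF.2 γ h) (Sp.sum hF.1 h)

theorem Sc.eq_smul (hp : 0 < p) (hβ : Val β) (hF : F ∈ Sc p (cnt p β) (∑ i, core p β i)) :
    F = F (core p β) • alt (core p β) := by
  refine eq_smul_alt hF.1.1 (hβ.core hp).1 fun γ h => ?_
  have hγ := Sp.val hF.1 h
  rw [← hγ.core_eq hp (Sc.wt hp hβ (w := 0) (by simpa using hF) h)]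
  exact exists_perm_core hp hβ hγ (hF.2 γ h)

theorem pw_replicate_apply (hp : 0 < p) (hβ : Val β) (hF : F ∈ Sp ι (∑ i, core p β i)) (w : ℕ) :
    pw (Multiset.replicate w p) F β =
      F (core p β) * pw (Multiset.replicate w p) (alt (core p β)) β := by
  have h : ∀ G : V ι, proj p (cnt p β) (pw (Multiset.replicate w p) G) =
      pw (Multiset.replicate w p) (proj p (cnt p β) G) := fun G => by
    induction w with
    | zero => rfl
    | succ w ih => simp only [Multiset.replicate_succ, pw_cons, U, proj_E _ _ dvd_rfl, ih]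
  have h1 := congrFun (h F) β
  rw [proj_apply, if_pos rfl, Sc.eq_smul hp hβ (Sp.proj hF _), map_smul, proj_apply,
    if_pos (cnt_core β)] at h1
  exact h1

/-! ### Runner operators -/

/-- Move a bead on runner `r` down by `j` places. -/
def Dr (p j r : ℕ) : V ι →ₗ[ℚ] V ι :=
  E (fun x => if 0 ≤ x ∧ x % p = r then 1 else 0) (-(p * j))

theorem Dr_comm (j r l s : ℕ) (F : V ι) : Dr p j r (Dr p l s F) = Dr p l s (Dr p j r F) := by
  rw [Dr, Dr, E_comm, add_eq_left]
  convert E_zero _ F using 3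
  ext x
  have h1 : (0 : ℤ) ≤ p * j := by positivity
  have h2 : (0 : ℤ) ≤ p * l := by positivity
  simp only [sub_neg_eq_add, Int.add_mul_emod_self_left]
  split_ifs <;> first | simp; done | omega

theorem D_eq_sum (hp : 0 < p) (j : ℕ) (F : V ι) :
    D (p * j) F = ∑ r ∈ range p, Dr p j r F := by
  have hp' : (0 : ℤ) < p := by exact_mod_cast hp
  simp only [Dr]
  rw [← E_sum, D]
  congr 2
  ext x
  have h1 := Int.emod_nonneg x hp'.ne'
  have h2 := Int.emod_lt_of_pos x hp'
  rw [sum_eq_single (x % p).toNat]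
  · simp [Int.toNat_of_nonneg h1]
  · intro r _ hr
    exact if_neg fun e => hr (by omega)
  · intro h
    exact (h (mem_range.2 (by omega))).elim

theorem Sc.Dr {c : ℤ → ℕ} (hF : F ∈ Sc p c m) (j r : ℕ) : Dr p j r F ∈ Sc p c (m - p * j) :=
  Sc.E hF (by simp) fun x h _ => by by_contra h'; simp [h'] at h

theorem sum_Icc_antisymm (G : ℤ → ℚ) {d a b : ℤ} (hG : ∀ j, G (d - j) = -G j) (hd : 0 < d)
    (hb : 0 ≤ b) (ha : a = b + d) :
    ∑ j ∈ Icc 1 a, G j + ∑ j ∈ Icc 1 b, G (-j) = -G 0 := by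
  have h1 : ∑ j ∈ Icc 1 b, G (-j) = -∑ j ∈ Icc (d + 1) a, G j := by
    rw [← sum_neg_distrib]
    refine sum_nbij' (fun j => d + j) (fun j => j - d) ?_ ?_ ?_ ?_ ?_ <;>
      simp only [mem_Icc] <;> intro j hj
    · omega
    · omega
    · ring
    · ring
    · rw [← hG]; congr 1; ring
  have h2 : Icc 1 a = insert d (Icc 1 (d - 1)) ∪ Icc (d + 1) a := by
    ext j; simp only [mem_Icc, mem_union, mem_insert]; omega
  have h3 : ∑ j ∈ Icc 1 (d - 1), G j = -∑ j ∈ Icc 1 (d - 1), G j := by
    rw [← sum_neg_distrib]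
    refine sum_nbij' (fun j => d - j) (fun j => d - j) ?_ ?_ ?_ ?_ ?_ <;>
      simp only [mem_Icc] <;> intro j hj
    · omega
    · omega
    · ring
    · ring
    · rw [hG, neg_neg]
  have h4 := hG 0
  rw [h1, h2, sum_union (disjoint_left.2 fun j => by simp only [mem_insert, mem_Icc]; omega),
    sum_insert (by simp)]
  rw [sub_zero] at h4
  linarith

/-- The degree operator is a combination of the runner operators. -/
theorem wt_eq_zero_of_Dr (hp : 0 < p) (hF : F ∈ Sp ι m)
    (h : ∀ j r : ℕ, 1 ≤ j → r < p → Dr p j r F = 0) (hβ : F β ≠ 0) : wt p β = 0 := by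
  have hp' : (0 : ℤ) < p := by exact_mod_cast hp
  have hv := Sp.val hF hβ
  let G : ι → ι → ℤ → ℚ := fun i k j => F (β - ee i (p * j) + ee k (p * j))
  let T : ι → ι → ℚ := fun i k => ∑ j ∈ Icc 1 (β i / p), G i k j
  have hq : ∀ i, 0 ≤ β i / p := fun i => Int.ediv_nonneg (hv.2 i) hp'.le
  have h1 : ∀ i, ∑ k with β k % p = β i % p, T i k = 0 := fun i => by
    rw [sum_comm]
    refine sum_eq_zero fun j hj => ?_
    obtain ⟨hj1, hj2⟩ := mem_Icc.1 hj
    have h1 := Int.emod_nonneg (β i) hp'.ne'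
    have h2 := Int.emod_lt_of_pos (β i) hp'
    have h3 := congrFun (h j.toNat (β i % p).toNat (by omega) (by omega)) (β - ee i (p * j))
    rw [Dr, E_apply, Int.toNat_of_nonneg h1, Int.toNat_of_nonneg (by omega)] at h3
    rw [sum_filter]
    refine Eq.trans (sum_congr rfl fun k _ => ?_) h3
    have h4 : 0 ≤ (β - ee i (p * j)) k ∧ (β - ee i (p * j)) k % p = β k % p := by
      by_cases e : k = i
      · subst e
        have := Int.emod_add_mul_ediv (β k) p
        simp only [Pi.sub_apply, Pi.single_eq_same, Int.sub_mul_emod_self_left, and_true]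
        nlinarith
      · simp [Pi.single_eq_of_ne e, hv.2 k]
    simp only [h4.1, h4.2, true_and, ite_mul, one_mul, zero_mul, G, Pi.single_neg, sub_neg_eq_add]
  have h2 : ∀ i k, β k % p = β i % p → β k < β i → T i k + T k i = -F β := fun i k e hlt => by
    have hne : i ≠ k := fun e => by simp [e] at hlt
    have := sum_Icc_antisymm (G i k) (d := β i / p - β k / p) (a := β i / p) (fun j => ?_)
      (sub_pos.2 ((div_lt_div_of_emod hp e).2 hlt)) (hq k) (by ring)
    · simp only [G, mul_zero, Pi.single_zero, sub_zero, add_zero, mul_neg, Pi.single_neg] at this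
      rw [← this]
      refine congrArg _ (sum_congr rfl fun j _ => congrArg F (by abel))
    · have h3 := hF.1 (β - ee i (p * j) + ee k (p * j)) (swap i k)
      rw [sg_swap hne, neg_one_mul] at h3
      rw [← h3]
      refine congrArg F (funext fun x => ?_)
      have h4 := Int.emod_add_mul_ediv (β i) p
      have h5 := Int.emod_add_mul_ediv (β k) p
      by_cases hi : x = i
      · subst hi
        simp [Pi.single_eq_of_ne hne, Pi.single_eq_of_ne hne.symm]
        linear_combination h5 - h4 - e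
      by_cases hk : x = k
      · subst hk
        simp [Pi.single_eq_of_ne hne, Pi.single_eq_of_ne hne.symm]
        linear_combination h4 - h5 + e
      · simp [Pi.single_eq_of_ne hi, Pi.single_eq_of_ne hk, swap_apply_of_ne_of_ne hi hk]
  have h3 : ∀ i, ∑ k with β k % p = β i % p, T i k = T i i +
      ((∑ k, if β k % p = β i % p ∧ β k < β i then T i k else 0) +
        ∑ k, if β i % p = β k % p ∧ β i < β k then T i k else 0) := fun i => by
    rw [sum_filter, ← sum_add_distrib, ← add_sum_erase _ _ (mem_univ i),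
      ← add_sum_erase _ _ (mem_univ i), if_pos rfl, if_neg (by simp), add_zero, zero_add]
    refine congrArg _ (sum_congr rfl fun k hk => ?_)
    have := hv.1.ne (ne_of_mem_erase hk)
    split_ifs <;> first | simp; done | omega
  have h4 : ∑ i, ∑ k with β k % p = β i % p, T i k = 0 := sum_eq_zero fun i _ => h1 i
  simp only [h3, sum_add_distrib] at h4
  rw [sum_comm (f := fun i k => if β i % p = β k % p ∧ β i < β k then T i k else 0),
    ← sum_add_distrib, ← sum_add_distrib] at h4
  have h5 : (wt p β : ℚ) * F β = 0 := by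
    rw [← h4, wt, Int.cast_sum, sum_mul]
    refine sum_congr rfl fun i _ => ?_
    rw [← sum_add_distrib, sum_congr rfl (g := fun k =>
      if β k % p = β i % p ∧ β k < β i then -F β else 0) fun k _ => ?_]
    · rw [← sum_filter, sum_const]
      simp only [T, G, sub_add_cancel, sum_const, Int.card_Icc, add_sub_cancel_right,
        nsmul_eq_mul, rk]
      have : (((β i / p).toNat : ℤ) : ℚ) = (β i / p : ℤ) := by rw [Int.toNat_of_nonneg (hq i)]
      rw [Int.cast_natCast] at this
      rw [this]; push_cast; ring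
    · split_ifs with e
      · exact h2 i k e.1 e.2
      · simp
  exact_mod_cast (mul_eq_zero.1 h5).resolve_right hβ

end Cfsg.Agent.SnCh
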