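import Mathlib
import Cfsg.Agent.SnCh.Core

/-!
# The bound for the number of Brauer characters of a block of weight `w`
-/

set_option autoImplicit false

namespace Cfsg.Agent.SnCh

open Finset Equiv Module

theorem finrank_le_add_sum {W κ : Type*} [AddCommGroup W] [Module ℚ W] (s : Finset κ)
    (f : κ → W →ₗ[ℚ] W) (T : κ → Submodule ℚ W) [∀ a, FiniteDimensional ℚ (T a)]
    (S' : Submodule ℚ W) [FiniteDimensional ℚ S'] (S : Submodule ℚ W) [FiniteDimensional ℚ S]
    (h : ∀ a ∈ s, ∀ F ∈ S, f a F ∈ T a) (h' : ∀ F ∈ S, (∀ a ∈ s, f a F = 0) → F ∈ S') :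
    finrank ℚ S ≤ finrank ℚ S' + ∑ a ∈ s, finrank ℚ (T a) := by
  classical
  induction s using Finset.induction_on generalizing S with
  | empty => simpa using Submodule.finrank_mono fun F hF => h' F hF (by simp)
  | insert a s ha ih =>
    have : FiniteDimensional ℚ ↥(S ⊓ LinearMap.ker (f a)) :=
      Submodule.finiteDimensional_of_le inf_le_left
    have h1 := ih (S ⊓ LinearMap.ker (f a)) (fun b hb F hF => h b (mem_insert_of_mem hb) F hF.1)
      fun F hF e => h' F hF.1 fun b hb => by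
        rcases mem_insert.1 hb with rfl | hb
        · exact hF.2
        · exact e b hb
    have h2 := ((f a).domRestrict S).finrank_range_add_finrank_ker
    have h3 : finrank ℚ (LinearMap.range ((f a).domRestrict S)) ≤ finrank ℚ (T a) :=
      Submodule.finrank_mono (by rintro _ ⟨F, rfl⟩; exact h a (mem_insert_self _ _) F F.2)
    have h4 : finrank ℚ (LinearMap.ker ((f a).domRestrict S)) =
        finrank ℚ ↥(S ⊓ LinearMap.ker (f a)) := by
      rw [LinearMap.ker_domRestrict, ← Submodule.finrank_map_subtype_eq, Submodule.map_comap_subtype]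
    rw [sum_insert ha]
    omega

variable {ι : Type*} [Fintype ι] [DecidableEq ι] {p : ℕ} {β : ι → ℤ}

/-- Vectors of weight `w` orthogonal to the `p`-singular classes. -/
def Kw (p : ℕ) (β : ι → ℤ) (w : ℕ) : Submodule ℚ (V ι) :=
  Sc p (cnt p β) (∑ i, core p β i + p * w) ⊓ ⨅ j : ℕ, ⨅ _ : 1 ≤ j, LinearMap.ker (D (p * j))

theorem mem_Kw {w : ℕ} {F : V ι} : F ∈ Kw p β w ↔
    F ∈ Sc p (cnt p β) (∑ i, core p β i + p * w) ∧ ∀ j : ℕ, 1 ≤ j → D (p * j) F = 0 := by
  simp [Kw]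

instance (w : ℕ) : FiniteDimensional ℚ (Kw p β w) :=
  Submodule.finiteDimensional_of_le (S₂ := Sp ι _) fun _ hF => (mem_Kw.1 hF).1.1

theorem Kw.Dr (hp : 0 < p) {w j : ℕ} (hj : j ≤ w) {F : V ι} (hF : F ∈ Kw p β w) (r : ℕ) :
    Dr p j r F ∈ Kw p β (w - j) := by
  obtain ⟨h1, h2⟩ := mem_Kw.1 hF
  refine mem_Kw.2 ⟨?_, fun l hl => ?_⟩
  · convert Sc.Dr h1 j r using 2
    push_cast [hj]; ring
  · rw [D_eq_sum hp, sum_congr rfl fun s _ => Dr_comm l s j r F, ← map_sum, ← D_eq_sum hp, h2 l hl,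
      map_zero]

theorem Kw.Dr_eq_zero (hp : 0 < p) (hβ : Val β) {w j : ℕ} (hj : w < j) {F : V ι}
    (hF : F ∈ Kw p β w) (r : ℕ) : SnCh.Dr p j r F = 0 := by
  ext γ
  by_contra h
  have h1 := Sc.Dr (mem_Kw.1 hF).1 j r
  have h2 := Sc.wt hp hβ (w := w - j) (by convert h1 using 2; ring) h
  have h3 := (Sp.val h1.1 h).wt_nonneg hp
  omega

theorem Kw.eq_zero (hp : 0 < p) (hβ : Val β) {w : ℕ} (hw : 0 < w) {F : V ι} (hF : F ∈ Kw p β w)
    (h : ∀ j r : ℕ, 1 ≤ j → j ≤ w → 1 ≤ r → r < p → SnCh.Dr p j r F = 0) : F = 0 := by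
  have h' : ∀ j r : ℕ, 1 ≤ j → 1 ≤ r → r < p → SnCh.Dr p j r F = 0 := fun j r h1 h2 h3 => by
    by_cases hj : j ≤ w
    · exact h j r h1 hj h2 h3
    · exact Kw.Dr_eq_zero hp hβ (by omega) hF r
  obtain ⟨h1, h2⟩ := mem_Kw.1 hF
  ext γ
  by_contra hγ
  have h3 := wt_eq_zero_of_Dr hp h1.1 (fun j r hj hr => ?_) hγ
  · have := Sc.wt hp hβ h1 hγ
    omega
  · rcases Nat.eq_zero_or_pos r with rfl | h0
    · have h4 := h2 j hj
      rwa [D_eq_sum hp, sum_eq_single_of_mem 0 (mem_range.2 hp) fun s hs h0 =>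
        h' j s hj (by omega) (mem_range.1 hs)] at h4
    · exact h' j r hj h0 hr

theorem finrank_Kw_zero (hp : 0 < p) (hβ : Val β) : finrank ℚ (Kw p β 0) ≤ 1 := by
  refine (Submodule.finrank_mono (t := ℚ ∙ alt (core p β)) fun F hF => ?_).trans ?_
  · rw [Sc.eq_smul hp hβ (F := F) (by simpa using (mem_Kw.1 hF).1)]
    exact Submodule.smul_mem _ _ (Submodule.mem_span_singleton_self _)
  · simpa using finrank_span_le_card (R := ℚ) {alt (core p β)}

/-- Vectors of `Kw` killed by the long moves and by the short moves on the runners `> s`. -/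
def Lw (p : ℕ) (β : ι → ℤ) (w s : ℕ) : Submodule ℚ (V ι) :=
  Kw p β w ⊓ ⨅ j : ℕ, ⨅ r : ℕ, ⨅ _ : 1 ≤ j ∧ 1 ≤ r ∧ r < p ∧ (2 ≤ j ∨ s < r),
    LinearMap.ker (Dr p j r)

theorem mem_Lw {w s : ℕ} {F : V ι} : F ∈ Lw p β w s ↔ F ∈ Kw p β w ∧
    ∀ j r : ℕ, 1 ≤ j ∧ 1 ≤ r ∧ r < p ∧ (2 ≤ j ∨ s < r) → Dr p j r F = 0 := by
  simp only [Lw, Submodule.mem_inf, Submodule.mem_iInf, LinearMap.mem_ker]

instance (w s : ℕ) : FiniteDimensional ℚ (Lw p β w s) :=
  Submodule.finiteDimensional_of_le inf_le_left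

theorem finrank_Lw (hp : 0 < p) (hβ : Val β) (w s : ℕ) :
    finrank ℚ (Lw p β w s) ≤ s.multichoose w := by
  induction w generalizing s with
  | zero =>
    rw [Nat.multichoose_zero_right]
    exact (Submodule.finrank_mono inf_le_left).trans (finrank_Kw_zero hp hβ)
  | succ w ih =>
    induction s with
    | zero =>
      rw [Nat.multichoose_zero_succ, Nat.le_zero, Submodule.finrank_eq_zero, eq_bot_iff]
      intro F hF
      obtain ⟨h1, h2⟩ := mem_Lw.1 hF
      exact Kw.eq_zero hp hβ w.succ_pos h1 fun j r _ _ _ _ => h2 j r (by omega)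
    | succ s ihs =>
      have := finrank_le_add_sum {()} (fun _ => Dr p 1 (s + 1)) (fun _ => Lw p β w (s + 1))
        (Lw p β (w + 1) s) (Lw p β (w + 1) (s + 1)) (fun _ _ F hF => ?_) fun F hF h => ?_
      · rw [Nat.multichoose_succ_succ]
        rw [sum_singleton] at this
        have := ih (s + 1)
        omega
      · obtain ⟨h1, h2⟩ := mem_Lw.1 hF
        exact mem_Lw.2 ⟨Kw.Dr hp (j := 1) (by omega) h1 (s + 1), fun j r h => by
          rw [Dr_comm, h2 j r h, map_zero]⟩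
      · obtain ⟨h1, h2⟩ := mem_Lw.1 hF
        refine mem_Lw.2 ⟨h1, fun j r e => ?_⟩
        by_cases e' : j = 1 ∧ r = s + 1
        · rw [e'.1, e'.2]; exact h () (mem_singleton_self _)
        · exact h2 j r (by omega)

theorem finrank_Kw_le (hp : 0 < p) (hβ : Val β) (w : ℕ) : finrank ℚ (Kw p β w) ≤
    (p - 1).multichoose w + (p - 1) * ∑ j ∈ Icc 2 w, finrank ℚ (Kw p β (w - j)) := by
  have := finrank_le_add_sum (Icc 2 w ×ˢ Ico 1 p) (fun a => Dr p a.1 a.2)
    (fun a => Kw p β (w - a.1)) (Lw p β w (p - 1)) (Kw p β w)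
    (fun a ha F hF => Kw.Dr hp (mem_Icc.1 (mem_product.1 ha).1).2 hF _) fun F hF h => ?_
  · have h2 := finrank_Lw hp hβ w (p - 1)
    rw [sum_product' _ _ fun j (_ : ℕ) => finrank ℚ (Kw p β (w - j))] at this
    simp only [sum_const, Nat.card_Ico, smul_eq_mul, ← mul_sum] at this
    omega
  · refine mem_Lw.2 ⟨hF, fun j r e => ?_⟩
    by_cases hj : j ≤ w
    · exact h (j, r) (by simp only [mem_product, mem_Icc, mem_Ico]; omega)
    · exact Kw.Dr_eq_zero hp hβ (by omega) hF r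

theorem finrank_Kw_succ_le (hp : 0 < p) (hβ : Val β) (w : ℕ) : finrank ℚ (Kw p β (w + 1)) ≤
    (p - 1) * ∑ j ∈ range (w + 1), finrank ℚ (Kw p β j) := by
  have := finrank_le_add_sum (range (w + 1) ×ˢ Ico 1 p) (fun a => Dr p (w + 1 - a.1) a.2)
    (fun a => Kw p β a.1) ⊥ (Kw p β (w + 1)) (fun a ha F hF => ?_) fun F hF h => ?_
  · rw [sum_product' _ _ fun j (_ : ℕ) => finrank ℚ (Kw p β j)] at this
    simpa only [sum_const, Nat.card_Ico, smul_eq_mul, ← mul_sum, finrank_bot, zero_add] using this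
  · have := mem_range.1 (mem_product.1 ha).1
    convert Kw.Dr hp (j := w + 1 - a.1) (by omega) hF a.2 using 2
    omega
  · refine Kw.eq_zero hp hβ w.succ_pos hF fun j r _ _ _ _ => ?_
    have := h (w + 1 - j, r) (by simp only [mem_product, mem_range, mem_Ico]; omega)
    rwa [show w + 1 - (w + 1 - j) = j by omega] at this

theorem numeric_bound (a : ℕ → ℕ) {e : ℕ} (he : 1 ≤ e) (h0 : a 0 ≤ 1)
    (h1 : ∀ w, a (w + 1) ≤ e * ∑ j ∈ range (w + 1), a j)
    (h2 : ∀ w, a w ≤ e.multichoose w + e * ∑ j ∈ Icc 2 w, a (w - j)) (w : ℕ) :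
    (1 ≤ w → a w < (e + 1) ^ w) ∧ (3 ≤ w → 2 * a w < (e + 1) ^ w) := by
  have hS : ∀ w, ∑ j ∈ range (w + 2), a j ≤ (e + 1) * ∑ j ∈ range (w + 1), a j := fun w => by
    have := h1 w
    rw [sum_range_succ _ (w + 1)]; nlinarith
  have m2 : ∀ e : ℕ, 2 * e.multichoose 2 = e * (e + 1) := fun e => by
    induction e with
    | zero => simp
    | succ e ih => rw [Nat.multichoose_succ_succ, Nat.multichoose_one_right]; nlinarith
  have m3 : ∀ e : ℕ, 6 * e.multichoose 3 = e * (e + 1) * (e + 2) := fun e => by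
    induction e with
    | zero => simp
    | succ e ih => rw [Nat.multichoose_succ_succ]; nlinarith [m2 (e + 1)]
  have a1 : a 1 ≤ e := by simpa using h2 1
  have a2 : 2 * a 2 ≤ e * (e + 3) := by
    have := h2 2
    simp only [Icc_self, sum_singleton, Nat.sub_self] at this
    nlinarith [m2 e]
  have a3 : 6 * a 3 ≤ e * (e + 1) * (e + 8) := by
    have := h2 3
    rw [show Icc 2 3 = {2, 3} by decide, sum_pair (by decide)] at this
    simp only [Nat.sub_self, show 3 - 2 = 1 from rfl] at this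
    have h3 : e * (a 1 + a 0) ≤ e * (e + 1) := Nat.mul_le_mul_left _ (by omega)
    nlinarith [m3 e]
  constructor
  · have : ∀ w, ∑ j ∈ range (w + 1), a j ≤ (e + 1) ^ w := fun w => by
      induction w with
      | zero => simpa using h0
      | succ w ih => exact (hS w).trans (by rw [pow_succ']; exact Nat.mul_le_mul_left _ ih)
    intro hw
    obtain ⟨w, rfl⟩ := Nat.exists_eq_add_of_le' hw
    have h3 := h1 w
    have h4 := this w
    have h5 : 0 < (e + 1) ^ w := by positivity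
    rw [pow_succ]; nlinarith
  · obtain ⟨e, rfl⟩ := Nat.exists_eq_add_of_le' he
    have : ∀ w, 2 * (e + 1) * ∑ j ∈ range (w + 4), a j < (e + 1 + 1) ^ (w + 4) := fun w => by
      induction w with
      | zero =>
        have h3 : 6 * ∑ j ∈ range 4, a j ≤ 6 + 6 * (e + 1) + 3 * ((e + 1) * (e + 1 + 3)) +
            (e + 1) * (e + 1 + 1) * (e + 1 + 8) := by
          simp only [sum_range_succ, range_zero, sum_empty]; omega
        have h4 := Nat.mul_le_mul_left (e + 1) h3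
        have h5 : 0 ≤ e ^ 4 ∧ 0 ≤ e ^ 3 ∧ 0 ≤ e ^ 2 := by simp
        simp only [zero_add]
        nlinarith
      | succ w ih =>
        have h3 := Nat.mul_le_mul_left (2 * (e + 1)) (hS (w + 3))
        rw [show w + 1 + 4 = w + 3 + 2 by ring, pow_succ _ (w + 3 + 1)]
        nlinarith
    intro hw
    rcases hw.eq_or_lt with rfl | hw
    · have h5 : 0 ≤ e ^ 3 ∧ 0 ≤ e ^ 2 := by simp
      nlinarith
    · obtain ⟨w, rfl⟩ := Nat.exists_eq_add_of_le' (show 4 ≤ w from hw)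
      have h3 := h1 (w + 3)
      have h4 := this w
      nlinarith

theorem finrank_Kw_lt (hp : 2 ≤ p) (hβ : Val β) (w : ℕ) :
    (1 ≤ w → finrank ℚ (Kw p β w) < p ^ w) ∧ (3 ≤ w → 2 * finrank ℚ (Kw p β w) < p ^ w) := by
  have := numeric_bound (fun w => finrank ℚ (Kw p β w)) (e := p - 1) (by omega)
    (finrank_Kw_zero (by omega) hβ) (finrank_Kw_succ_le (by omega) hβ)
    (finrank_Kw_le (by omega) hβ) w
  rwa [show p - 1 + 1 = p by omega] at this

end Cfsg.Agent.SnCh
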