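import Mathlib
import Cfsg.Agent.SnCh.Core

/-!
# The hook length formula on the `p`-abacus
-/

set_option autoImplicit false

namespace Cfsg.Agent.SnCh

open Finset Equiv Module

/-- `1 / (x / p)!`, and zero unless `x` is a nonnegative multiple of `p`. -/
def invf (p : ℕ) (x : ℤ) : ℚ := if 0 ≤ x ∧ (p : ℤ) ∣ x then (((x / p).toNat.factorial : ℕ) : ℚ)⁻¹ else 0

variable {p : ℕ}

theorem invf_mul (hp : 0 < p) (n : ℕ) : invf p (p * n) = ((n.factorial : ℕ) : ℚ)⁻¹ := by
  have hp' : (p : ℤ) ≠ 0 := by exact_mod_cast hp.ne'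
  rw [invf, if_pos ⟨by positivity, dvd_mul_right _ _⟩, Int.mul_ediv_cancel_left _ hp',
    Int.toNat_natCast]

theorem invf_sub (hp : 0 < p) (x : ℤ) : p * invf p (x - p) = x * invf p x := by
  have hp' : (0 : ℤ) < p := by exact_mod_cast hp
  by_cases h : 0 ≤ x ∧ (p : ℤ) ∣ x
  · obtain ⟨h0, c, rfl⟩ := h
    lift c to ℕ using nonneg_of_mul_nonneg_right h0 hp'
    rcases c with _ | c
    · rw [invf, if_neg (by simp; omega)]; simp
    · rw [invf_mul hp, show (p : ℤ) * (c + 1 : ℕ) - p = p * c by push_cast; ring, invf_mul hp,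
        Nat.factorial_succ]
      push_cast; field_simp
  · rw [invf, invf, if_neg h, if_neg fun e => h ⟨by omega, (dvd_sub_self_right.1 e.2)⟩]; simp

variable {ι : Type*} [Fintype ι] [DecidableEq ι] {β : ι → ℤ}

/-- The determinant `det (1 / ((β_i - v_j) / p)!)`. -/
def dt (p : ℕ) (v : ι → ℤ) : V ι := fun β => ∑ σ : Perm ι, sg σ * ∏ i, invf p (β i - v (σ i))

theorem U_dt (hp : 0 < p) (v β : ι → ℤ) :
    p * U p (dt p v) β = (∑ i, β i - ∑ i, v i : ℤ) * dt p v β := by
  simp only [U_apply, dt, mul_sum]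
  rw [sum_comm]
  refine sum_congr rfl fun σ _ => ?_
  rw [← Equiv.sum_comp σ v, ← sum_sub_distrib, Int.cast_sum, sum_mul]
  refine sum_congr rfl fun i _ => ?_
  rw [← mul_prod_erase _ _ (mem_univ i), ← mul_prod_erase _ _ (mem_univ i),
    prod_congr rfl (g := fun j => invf p (β j - v (σ j))) fun j hj => by
      simp [Pi.single_eq_of_ne (ne_of_mem_erase hj)]]
  have := invf_sub hp (β i - v (σ i))
  simp only [Pi.sub_apply, Pi.single_eq_same, sub_right_comm (β i) p]
  linear_combination (sg σ * ∏ j ∈ univ.erase i, invf p (β j - v (σ j))) * this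

theorem pw_alt_eq (hp : 0 < p) (v : ι → ℤ) (w : ℕ) (β : ι → ℤ) :
    pw (Multiset.replicate w p) (alt v) β =
      if ∑ i, β i = ∑ i, v i + p * w then w.factorial * dt p v β else 0 := by
  induction w generalizing β with
  | zero =>
    simp only [Multiset.replicate_zero, pw_zero, alt, dt, Nat.cast_zero, mul_zero, add_zero,
      Nat.factorial_zero, Nat.cast_one, one_mul]
    split_ifs with h
    · refine sum_congr rfl fun σ _ => ?_
      split_ifs with e
      · simp [e, invf]
      · refine (mul_eq_zero_of_right _ ?_).symm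
        by_contra h0
        have h1 : ∀ i ∈ univ, 0 ≤ β i - v (σ i) := fun i hi => by
          by_contra h1
          exact prod_ne_zero_iff.1 h0 i hi (if_neg fun e => h1 e.1)
        have h2 := (sum_eq_zero_iff_of_nonneg h1).1
          (by rw [sum_sub_distrib, Equiv.sum_comp σ v, h, sub_self])
        exact e (funext fun i => sub_eq_zero.1 (h2 i (mem_univ i)))
    · exact sum_eq_zero fun σ _ => if_neg fun e => h (by rw [e]; exact Equiv.sum_comp σ v)
  | succ w ih =>
    have hp' : (p : ℚ) ≠ 0 := by exact_mod_cast hp.ne'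
    rw [Multiset.replicate_succ, pw_cons, U_apply, sum_congr rfl fun i _ => ih _]
    simp only [sum_sub_single]
    split_ifs with h1 h2 h2
    · have h3 := U_dt hp v β
      rw [U_apply, h2] at h3
      rw [← mul_sum, Nat.factorial_succ]
      refine mul_left_cancel₀ hp' ?_
      push_cast at h3 ⊢
      linear_combination (w.factorial : ℚ) * h3
    · exact (h2 (by push_cast; linarith)).elim
    · exact (h1 (by push_cast at h2; linarith)).elim
    · simp

theorem det_block {ρ : Type*} [LinearOrder ρ] (r : ι → ρ) (t : ι → ℕ) (q : ι → ℚ)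
    (h1 : ∀ i, t i < #{j | r j = r i}) (h2 : ∀ i j, r i = r j → t i = t j → i = j) :
    (Matrix.of fun j i => if r j = r i then (descPochhammer ℚ (t j)).eval (q i) else 0).det =
      ∏ i, ∏ j with r j = r i ∧ t j < t i, (q i - q j) := by
  rw [Matrix.BlockTriangular.det (b := r) fun j i h => by simp [h.ne'],
    ← prod_fiberwise_of_maps_to (t := univ.image r) (g := r) fun i _ => mem_image_of_mem r
      (mem_univ i)]
  refine prod_congr rfl fun a _ => ?_
  let f : {i // r i = a} → Fin (Fintype.card {i // r i = a}) := fun i =>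
    ⟨t i, by have := h1 i; rwa [i.2, ← Fintype.card_subtype] at this⟩
  have hf : Function.Bijective f := (Fintype.bijective_iff_injective_and_card f).2
    ⟨fun i j e => Subtype.ext (h2 _ _ (i.2.trans j.2.symm) (congrArg Fin.val e)), by simp⟩
  let e := Equiv.ofBijective f hf
  have he : ∀ i, (e i : ℕ) = t i := fun _ => rfl
  have h3 := Matrix.det_eval_matrixOfPolynomials_eq_det_vandermonde (fun k => q (e.symm k))
    (fun k => descPochhammer ℚ k) (fun k => descPochhammer_natDegree ℚ k)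
    fun k => monic_descPochhammer ℚ k
  rw [Matrix.det_vandermonde, ← Matrix.det_transpose, ← Matrix.det_submatrix_equiv_self e,
    prod_comm' (t' := univ) (s' := fun k => Iio k) (by simp), ← Equiv.prod_comp e] at h3
  rw [prod_subtype (p := fun i => r i = a) _ (by simp)]
  convert h3.symm using 2 with i
  · ext j i
    simp [Matrix.toSquareBlock, Matrix.toSquareBlockProp, Matrix.toBlock, he, i.2, j.2]
  · refine prod_bij' (fun j hj => e ⟨j, (mem_filter.1 hj).2.1.trans i.2⟩) (fun k _ => e.symm k)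
      (fun j hj => ?_) (fun k hk => ?_) (fun j hj => by simp) (fun k hk => by simp)
      fun j hj => by simp
    · exact mem_Iio.2 (mem_filter.1 hj).2.2
    · refine mem_filter.2 ⟨mem_univ _, (e.symm k).2.trans i.2.symm, ?_⟩
      rw [← he, ← he, e.apply_symm_apply]
      exact Fin.lt_def.1 (mem_Iio.1 hk)

theorem dt_core (hp : 0 < p) (hβ : Val β) :
    dt p (core p β) β * ∏ i, (((β i / p).toNat.factorial : ℕ) : ℚ) =
      ∏ i, ∏ j with β j % p = β i % p ∧ β j < β i, ((β i / p - β j / p : ℤ) : ℚ) := by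
  have hp' : (0 : ℤ) < p := by exact_mod_cast hp
  have h := det_block (fun i => β i % p) (rk p β) (fun i => ((β i / p : ℤ) : ℚ)) (rk_lt_cnt β)
    fun i j => rk_inj hβ.1
  rw [Matrix.det_apply'] at h
  rw [dt, sum_mul]
  convert h using 2 with σ _ i _
  · rw [mul_assoc, ← prod_mul_distrib]
    refine congrArg _ (prod_congr rfl fun i _ => ?_)
    obtain ⟨n, hn⟩ := Int.eq_ofNat_of_zero_le (Int.ediv_nonneg (hβ.2 i) hp'.le)
    rw [Matrix.of_apply, hn, Int.toNat_natCast, Int.cast_natCast,
      descPochhammer_eval_eq_descFactorial]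
    have h1 := Int.emod_add_mul_ediv (β i) p
    split_ifs with e
    · by_cases ht : rk p β (σ i) ≤ n
      · rw [show β i - core p β (σ i) = p * (n - rk p β (σ i) : ℕ) by
          rw [core, e]; push_cast [ht]; linear_combination -h1 + p * hn, invf_mul hp,
          ← Nat.factorial_mul_descFactorial ht]
        push_cast; field_simp
      · rw [Nat.descFactorial_of_lt (by omega), invf, if_neg fun e' => ?_]
        · simp
        · have h2 : (n : ℤ) + 1 ≤ rk p β (σ i) := by omega
          have h3 := e'.1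
          rw [core, e] at h3
          nlinarith
    · rw [invf, if_neg fun e' => e ?_, zero_mul]
      rw [← core_emod]
      exact (Int.emod_emod_of_dvd _ dvd_rfl).symm.trans <| (Int.emod_emod_of_dvd _ dvd_rfl).trans
        (Int.modEq_iff_dvd.2 e'.2)
  · refine prod_congr (filter_congr fun j _ => and_congr_right fun e => (rk_lt_rk_iff e).symm) ?_
    simp

/-- The free places below bead `i` on its runner. -/
noncomputable def gaps (p : ℕ) (β : ι → ℤ) (i : ι) : Finset ℤ :=
  {y ∈ Ico 0 (β i) | y % p = β i % p} \ univ.image β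

/-- The product of the hook lengths divisible by `p`, each divided by `p`. -/
noncomputable def Hk (p : ℕ) (β : ι → ℤ) : ℕ := ∏ i, ∏ y ∈ gaps p β i, (β i / p - y / p).toNat

omit [DecidableEq ι] in
theorem mem_gaps {i : ι} {y : ℤ} :
    y ∈ gaps p β i ↔ 0 ≤ y ∧ y < β i ∧ y % p = β i % p ∧ ∀ j, β j ≠ y := by
  simp [gaps, and_assoc]

theorem image_div_filter (hp : 0 < p) (x : ℤ) :
    ({y ∈ Ico 0 x | y % p = x % p} : Finset ℤ).image (· / (p : ℤ)) = Ico 0 (x / p) := by
  have hp' : (0 : ℤ) < p := by exact_mod_cast hp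
  ext z
  simp only [mem_image, mem_filter, mem_Ico]
  constructor
  · rintro ⟨y, ⟨⟨h1, h2⟩, h3⟩, rfl⟩
    exact ⟨Int.ediv_nonneg h1 hp'.le, (div_lt_div_of_emod hp h3).2 h2⟩
  · rintro ⟨h1, h2⟩
    have h3 := Int.emod_nonneg x hp'.ne'
    have h4 : (x % p + p * z) / p = z := by
      rw [Int.add_mul_ediv_left _ _ hp'.ne', Int.ediv_eq_zero_of_lt h3 (Int.emod_lt_of_pos _ hp'),
        zero_add]
    have h5 : (x % p + p * z) % p = x % p := by simp
    exact ⟨x % p + p * z, ⟨⟨by positivity, (div_lt_div_of_emod hp h5).1 (by rwa [h4])⟩, h5⟩, h4⟩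

omit [DecidableEq ι] in
theorem prod_gaps_mul {A : Type*} [CommMonoid A] (hp : 0 < p) (hβ : Val β) (i : ι) (f : ℤ → A) :
    (∏ y ∈ gaps p β i, f (y / p)) * ∏ j with β j % p = β i % p ∧ β j < β i, f (β j / p) =
      ∏ z ∈ Ico 0 (β i / p), f z := by
  rw [← image_div_filter hp, prod_image fun y hy z hz e => eq_of_emod_of_div
    ((mem_filter.1 hy).2.trans (mem_filter.1 hz).2.symm) e, gaps,
    ← prod_image (f := fun y => f (y / p)) (g := β) fun a _ b _ e => hβ.1 e,
    ← prod_sdiff (s₁ := ({j | β j % p = β i % p ∧ β j < β i} : Finset ι).image β)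
      (s₂ := {y ∈ Ico 0 (β i) | y % p = β i % p})]
  · congr 2
    ext y
    simp only [mem_sdiff, mem_filter, mem_Ico, mem_image, mem_univ, true_and, and_congr_right_iff]
    rintro ⟨⟨-, h1⟩, h2⟩
    exact not_congr ⟨fun ⟨j, e⟩ => ⟨j, by rw [e]; exact ⟨h2, h1⟩, e⟩, fun ⟨j, _, e⟩ => ⟨j, e⟩⟩
  · intro y hy
    obtain ⟨j, hj, rfl⟩ := mem_image.1 hy
    simp only [mem_filter, mem_Ico] at hj ⊢
    exact ⟨⟨hβ.2 j, hj.2.2⟩, hj.2.1⟩

theorem prod_Ico_sub (n : ℕ) : ∏ z ∈ Ico (0 : ℤ) n, ((n - z : ℤ) : ℚ) = n.factorial := by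
  rw [← prod_range_add_one_eq_factorial, Nat.cast_prod]
  refine prod_nbij' (fun z => (n - 1 - z).toNat) (fun k => n - 1 - k) ?_ ?_ ?_ ?_ ?_ <;>
    simp only [mem_Ico, mem_range] <;> intro z hz
  · omega
  · omega
  · omega
  · omega
  · rw [show (n - z : ℤ) = ((n - 1 - z).toNat + 1 : ℕ) by omega, Int.cast_natCast]

omit [DecidableEq ι] in
theorem card_gaps (hp : 0 < p) (hβ : Val β) (i : ι) :
    (#(gaps p β i) : ℤ) = β i / p - rk p β i := by
  have hp' : (0 : ℤ) < p := by exact_mod_cast hp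
  have h := prod_gaps_mul hp hβ i fun _ => Multiplicative.ofAdd (1 : ℕ)
  simp only [prod_const, ← ofAdd_nsmul, ← ofAdd_add, smul_eq_mul, mul_one, Int.card_Ico,
    EmbeddingLike.apply_eq_iff_eq] at h
  have := Int.ediv_nonneg (hβ.2 i) hp'.le
  rw [rk]; omega

omit [DecidableEq ι] in
theorem sub_div_pos (hp : 0 < p) {i : ι} {y : ℤ} (hy : y ∈ gaps p β i) : 0 < β i / p - y / p :=
  sub_pos.2 ((div_lt_div_of_emod hp (mem_gaps.1 hy).2.2.1).2 (mem_gaps.1 hy).2.1)

omit [DecidableEq ι] in
theorem Hk_pos (hp : 0 < p) (β : ι → ℤ) : 0 < Hk p β :=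
  prod_pos fun _ _ => prod_pos fun _ hy => by have := sub_div_pos hp hy; omega

/-- The hook length formula. -/
theorem pw_alt_mul_Hk (hp : 0 < p) (hβ : Val β) {w : ℕ} (hw : wt p β = w) :
    pw (Multiset.replicate w p) (alt (core p β)) β * Hk p β = w.factorial := by
  have hp' : (0 : ℤ) < p := by exact_mod_cast hp
  rw [pw_alt_eq hp, if_pos (by rw [← hw, ← sum_eq_core]), mul_assoc]
  refine mul_eq_left₀ (by positivity) |>.2 ?_
  have h1 := dt_core hp hβ
  have h2 : (Hk p β : ℚ) * ∏ i, ∏ j with β j % p = β i % p ∧ β j < β i,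
      ((β i / p - β j / p : ℤ) : ℚ) = ∏ i, (((β i / p).toNat.factorial : ℕ) : ℚ) := by
    rw [Hk, Nat.cast_prod, ← prod_mul_distrib]
    refine prod_congr rfl fun i _ => ?_
    have h3 := Int.toNat_of_nonneg (Int.ediv_nonneg (hβ.2 i) hp'.le)
    rw [← prod_Ico_sub, h3, ← prod_gaps_mul hp hβ i fun z => ((β i / p - z : ℤ) : ℚ),
      Nat.cast_prod]
    congr 1
    exact prod_congr rfl fun y hy => by
      rw [← Int.cast_natCast, Int.toNat_of_nonneg (sub_div_pos hp hy).le]
  refine mul_right_cancel₀ (b := ∏ i, (((β i / p).toNat.factorial : ℕ) : ℚ)) (by positivity) ?_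
  rw [mul_right_comm, h1, mul_comm, h2, one_mul]

theorem Hk_dvd (hp : 0 < p) (hβ : Val β) {w : ℕ} (hw : wt p β = w) : Hk p β ∣ w.factorial := by
  obtain ⟨z, hz⟩ := (isInt_alt (core p β)).pw (Multiset.replicate w p) β
  have h := pw_alt_mul_Hk hp hβ hw
  rw [hz] at h
  exact Int.natCast_dvd_natCast.1 (Dvd.intro_left z (by exact_mod_cast h))

omit [DecidableEq ι] in
theorem factorization_Hk_one (hp : p.Prime) (hβ : Val β) {w : ℕ} (hw : wt p β = w) :
    (Hk 1 β).factorization p = w + (Hk p β).factorization p := by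
  have hp0 := hp.pos
  have hp' : (0 : ℤ) < p := by exact_mod_cast hp0
  have h1 : ∀ {q : ℕ}, 0 < q → (Hk q β).factorization p =
      ∑ i, ∑ y ∈ gaps q β i, ((β i / q - y / q).toNat).factorization p := fun hq => by
    rw [Hk, Nat.factorization_prod_apply fun i _ =>
      (prod_pos fun _ hy => by have := sub_div_pos hq hy; omega).ne']
    exact sum_congr rfl fun i _ => Nat.factorization_prod_apply fun _ hy => by
      have := sub_div_pos hq hy; omega
  have h2 : w = ∑ i, #(gaps p β i) := by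
    have : (w : ℤ) = ∑ i, (#(gaps p β i) : ℤ) := by simp only [card_gaps hp0 hβ]; exact hw.symm
    exact_mod_cast this
  rw [h1 one_pos, h1 hp0, h2, ← sum_add_distrib]
  refine sum_congr rfl fun i _ => ?_
  rw [card_eq_sum_ones, ← sum_add_distrib]
  refine (sum_subset_zero_on_sdiff (fun y hy => ?_) (fun y hy => ?_) fun y hy => ?_).symm
  · rw [mem_gaps] at hy ⊢
    simp [hy.1, hy.2.1, hy.2.2.2]
  · simp only [mem_sdiff, mem_gaps] at hy
    refine Nat.factorization_eq_zero_of_not_dvd fun h => hy.2 ⟨hy.1.1, hy.1.2.1, ?_, hy.1.2.2.2⟩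
    have h3 := Int.natCast_dvd_natCast.2 h
    simp only [Nat.cast_one, Int.ediv_one] at h3
    rw [Int.toNat_of_nonneg (by omega)] at h3
    exact Int.modEq_iff_dvd.2 h3
  · have h3 := sub_div_pos hp0 hy
    have h4 : (β i / (1 : ℕ) - y / (1 : ℕ)).toNat = p * (β i / p - y / p).toNat := by
      have h5 := Int.emod_add_mul_ediv (β i) p
      have h6 := Int.emod_add_mul_ediv y p
      have h7 := (mem_gaps.1 hy).2.2.1
      have h8 := (mem_gaps.1 hy).2.1
      simp only [Nat.cast_one, Int.ediv_one]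
      zify
      rw [Int.toNat_of_nonneg (by omega), Int.toNat_of_nonneg h3.le]
      linear_combination h6 - h5 - h7
    rw [h4, Nat.factorization_mul hp0.ne' (by omega), Finsupp.add_apply, hp.factorization_self]

end Cfsg.Agent.SnCh
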