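import Mathlib
import Cfsg.Agent.SnCh.Hook
import Cfsg.Agent.Ch.Decomp

/-!
# Frobenius' formula: the irreducible characters of the symmetric group
-/

set_option autoImplicit false

namespace Cfsg.Agent.SnCh

open Finset Equiv Module Cfsg.Agent.Ch
open scoped ComplexConjugate

section Poly

variable {ι : Type*} [Fintype ι] [DecidableEq ι]

theorem pw_coeff (ρ : Multiset ℕ) (x : AddMonoidAlgebra ℚ (ι → ℤ)) :
    pw ρ (x.coeff : V ι) =
      ((ρ.map fun k : ℕ => ∑ i, AddMonoidAlgebra.single (ee i (k : ℤ)) (1 : ℚ)).prod * x).coeff := by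
  induction ρ using Multiset.induction_on with
  | empty => simp
  | cons k ρ ih =>
    ext β
    rw [pw_cons, ih, U_apply, Multiset.map_cons, Multiset.prod_cons, mul_assoc, sum_mul,
      AddMonoidAlgebra.coeff_sum, Finsupp.finsetSum_apply]
    exact sum_congr rfl fun i _ => by
      rw [AddMonoidAlgebra.coeff_single_mul_apply, one_mul, neg_add_eq_sub]

theorem pw_single {J : Type*} [Fintype J] [DecidableEq J] (m : J → ℕ) (v β : ι → ℤ) :
    pw (univ.val.map m) (Pi.single v 1) β =
      #{φ : J → ι | ∑ j, ee (φ j) (m j : ℤ) = β - v} := by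
  have h := congrFun (pw_coeff (univ.val.map m) (AddMonoidAlgebra.single v 1)) β
  rw [Multiset.map_map, ← Finset.prod_eq_multiset_prod] at h
  simp only [Function.comp_apply] at h
  rw [prod_univ_sum, sum_mul, AddMonoidAlgebra.coeff_sum, Finsupp.finsetSum_apply,
    AddMonoidAlgebra.coeff_single, Finsupp.single_eq_pi_single] at h
  rw [h, card_filter, Nat.cast_sum, Fintype.piFinset_univ]
  refine sum_congr rfl fun φ _ => ?_
  rw [AddMonoidAlgebra.prod_single, AddMonoidAlgebra.single_mul_single,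
    AddMonoidAlgebra.coeff_single, Finsupp.single_apply]
  simp [eq_sub_iff_add_eq]

theorem alt_eq_sum (v : ι → ℤ) : alt v = ∑ σ : Perm ι, sg σ • (Pi.single (v ∘ σ) 1 : V ι) := by
  ext β
  simp [alt, Finset.sum_apply, Pi.single_apply]

theorem ip_eq_sum {m : ℤ} {F : V ι} (hF : F ∈ Sp ι m) (G : V ι) :
    ip F G = ∑ β ∈ Fintype.piFinset fun _ : ι => Icc 0 m, F β * G β :=
  finsum_eq_sum_of_support_subset _ fun _ h => Sp.subset hF (left_ne_zero_of_mul h)

omit [Fintype ι] [DecidableEq ι] in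
theorem comp_injective {v : ι → ℤ} (hv : Function.Injective v) :
    Function.Injective fun σ : Perm ι => v ∘ σ := fun _ _ e => Perm.ext fun x => hv (congrFun e x)

theorem ip_alt {v : ι → ℤ} (hv : Function.Injective v) :
    ip (alt v) (alt v) = (Fintype.card ι).factorial := by
  rw [ip, finsum_eq_sum_of_support_subset (s := univ.image fun σ : Perm ι => v ∘ σ),
    sum_image fun _ _ _ _ e => comp_injective hv e]
  · simp [anti_alt v v, alt_self hv, sg_mul_self, Fintype.card_perm]
  · intro β h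
    obtain ⟨σ, rfl⟩ := exists_of_alt_ne (left_ne_zero_of_mul h)
    simp

end Poly

universe u

variable {α : Type u} [Fintype α] [DecidableEq α]

/-- The functions with prescribed fibre sizes. -/
def Fib (α : Type*) [Fintype α] {ι : Type*} [DecidableEq ι] (μ : ι → ℤ) : Type _ :=
  {f : α → ι // ∀ i, (#{a | f a = i} : ℤ) = μ i}

instance {ι : Type*} [Finite ι] [DecidableEq ι] (μ : ι → ℤ) : Finite (Fib α μ) :=
  inferInstanceAs (Finite {_f : α → ι // _})

instance {ι : Type*} [DecidableEq ι] (μ : ι → ℤ) : MulAction (Perm α) (Fib α μ) where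
  smul g f := ⟨f.1 ∘ ⇑g⁻¹, fun i => by
    rw [← f.2 i]; exact congrArg _ (card_equiv g⁻¹ (by simp))⟩
  one_smul _ := rfl
  mul_smul _ _ _ := rfl

theorem exists_orbits (g : Perm α) : ∃ (J : Type u) (_ : Fintype J) (_ : DecidableEq J)
    (r : α → J), Function.Surjective r ∧ (∀ a b, r a = r b ↔ g.SameCycle a b) ∧
      g.partition.parts = univ.val.map fun j => #{a | r a = j} := by
  let r : α → g.cycleFactorsFinset ⊕ {a // g a = a} := fun a => if h : g a = a then .inr ⟨a, h⟩
    else .inl ⟨g.cycleOf a, Perm.cycleOf_mem_cycleFactorsFinset_iff.2 (Perm.mem_support.2 h)⟩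
  have h1 : ∀ a c, r a = .inl c ↔ a ∈ c.1.support := fun a c => by
    simp only [r]
    split_ifs with h
    · refine iff_of_false (by simp) fun e => Perm.mem_support.1 e ?_
      rw [(Perm.mem_cycleFactorsFinset_iff.1 c.2).2 a e, h]
    · rw [Sum.inl.injEq, Subtype.ext_iff]
      exact ⟨fun e => by rw [← e]; exact (Perm.mem_support_cycleOf_iff' h).2 .rfl,
        fun e => (Perm.cycle_is_cycleOf e c.2).symm⟩
  have h2 : ∀ a c, r a = .inr c ↔ a = c := fun a c => by
    simp only [r]
    split_ifs with h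
    · simp [Subtype.ext_iff]
    · exact iff_of_false (by simp) fun e => h (e ▸ c.2)
  refine ⟨_, inferInstance, inferInstance, r, ?_, fun a b => ?_, ?_⟩
  · rintro (c | c)
    · obtain ⟨a, ha⟩ := (Perm.mem_cycleFactorsFinset_iff.1 c.2).1.nonempty_support
      exact ⟨a, (h1 a c).2 ha⟩
    · exact ⟨c, (h2 c c).2 rfl⟩
  · by_cases h : g a = a
    · rw [eq_comm, show r a = .inr ⟨a, h⟩ from dif_pos h, h2]
      exact ⟨fun e => by rw [e], fun e => (e.eq_of_left h).symm⟩
    · rw [eq_comm, show r a = .inl ⟨g.cycleOf a, _⟩ from dif_neg h, h1,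
        Perm.mem_support_cycleOf_iff' h]
  · rw [← univ_disjSum_univ, val_disjSum, Multiset.disjSum, Multiset.map_add, Multiset.map_map,
      Multiset.map_map, Perm.parts_partition]
    congr 1
    · rw [Perm.cycleType_def, univ_eq_attach, attach_val, ← Multiset.attach_map_val']
      exact Multiset.map_congr rfl fun c _ => congrArg card (by ext a; simp [h1])
    · rw [Multiset.map_congr rfl (g := fun _ => 1) fun c _ => by simp [h2, filter_eq'],
        Multiset.map_const', ← card_def, card_univ, Fintype.card_subtype, ← card_compl]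
      congr 2
      ext a; simp

theorem pw_partition_single {ι : Type*} [Fintype ι] [DecidableEq ι] (g : Perm α) (v β : ι → ℤ) :
    pw g.partition.parts (Pi.single v 1) β = Nat.card (MulAction.fixedBy (Fib α (β - v)) g) := by
  obtain ⟨J, _, _, r, h1, h2, h3⟩ := exists_orbits g
  have h4 : ∀ (φ : J → ι) i, (#{a | φ (r a) = i} : ℤ) = (∑ j, ee (φ j) (#{a | r a = j} : ℤ)) i := by
    intro φ i
    rw [card_eq_sum_card_fiberwise (f := r) (t := univ) (by simp [Set.MapsTo]), Nat.cast_sum,
      Finset.sum_apply]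
    refine sum_congr rfl fun j _ => ?_
    rw [filter_filter, ee, Pi.single_apply]
    split_ifs with e
    · exact congrArg _ (congrArg _ (filter_congr fun a _ => ⟨fun h => h.2, fun h => ⟨by rw [h, e], h⟩⟩))
    · rw [filter_false_of_mem fun a _ h => e (by rw [← h.1, h.2])]; rfl
  rw [h3, pw_single, ← Fintype.card_subtype, ← Nat.card_eq_fintype_card]
  refine congrArg _ (Nat.card_eq_of_bijective (fun φ => ⟨⟨φ.1 ∘ r, fun i =>
    (h4 φ.1 i).trans (congrFun φ.2 i)⟩, Subtype.ext (funext fun a => congrArg φ.1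
      ((h2 _ _).2 (Perm.SameCycle.symm ⟨-1, by simp⟩)))⟩) ⟨fun φ ψ e => ?_, fun f => ?_⟩)
  · exact Subtype.ext (h1.injective_comp_right (congrArg (fun f => f.1.1) e))
  · have h5 : ∀ a, f.1.1 (g a) = f.1.1 a := fun a => by
      have := congrFun (congrArg Subtype.val f.2) (g a)
      exact this.symm.trans (congrArg f.1.1 (g.symm_apply_apply a))
    have h6 : f.1.1 = (f.1.1 ∘ Function.surjInv h1) ∘ r := funext fun a => by
      obtain ⟨n, -, hn⟩ := ((h2 _ _).1 (Function.surjInv_eq h1 (r a))).exists_pow_eq'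
      simp only [Function.comp_apply]
      generalize Function.surjInv h1 (r a) = b at hn
      subst hn
      induction n with
      | zero => rfl
      | succ n ih => rw [pow_succ', Perm.mul_apply, h5, ih]
    exact ⟨⟨_, funext fun i => by rw [← h4, ← f.1.2 i, h6]; rfl⟩, Subtype.ext (Subtype.ext h6.symm)⟩

theorem zee_partition (g : Perm α) :
    zee g.partition.parts = Nat.card (Subgroup.centralizer ({g} : Set (Perm α))) := by
  have h : ∀ k, zee (g.cycleType + Multiset.replicate k 1) = k.factorial * zee g.cycleType := by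
    intro k
    induction k with
    | zero => simp
    | succ k ih =>
      rw [Multiset.replicate_succ, Multiset.add_cons, zee_cons, ih, Multiset.count_add,
        Multiset.count_eq_zero_of_notMem fun h => by simpa using Perm.two_le_of_mem_cycleType h,
        Multiset.count_replicate_self, Nat.factorial_succ]
      ring
  rw [Perm.parts_partition, h, Perm.nat_card_centralizer, Perm.sum_cycleType, zee, mul_assoc]

/-- The staircase. -/
def stair (N : ℕ) : Fin N → ℤ := fun i => i

theorem stair_val (N : ℕ) : Val (stair N) :=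
  ⟨fun _ _ e => Fin.ext (by simpa [stair] using e), fun _ => Int.natCast_nonneg _⟩

theorem alt_stair_mem (N : ℕ) : alt (stair N) ∈ Sp (Fin N) (tri (Fintype.card (Fin N))) := by
  convert alt_mem (stair_val N).2
  rw [Fintype.card_fin, tri, ← Fin.sum_univ_eq_sum_range]; rfl

variable {N : ℕ} {β γ : Fin N → ℤ}

/-- The polynomial `p_ρ a_δ`. -/
def Fr (N : ℕ) (ρ : Multiset ℕ) : V (Fin N) := pw ρ (alt (stair N))

theorem Fr_mem (ρ : Multiset ℕ) : Fr N ρ ∈ Sp (Fin N) (tri N + ρ.sum) := by
  simpa only [Fintype.card_fin, Fr] using Sp.pw (alt_stair_mem N) ρ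

theorem Fr_add (ρ σ : Multiset ℕ) : Fr N (ρ + σ) = pw ρ (Fr N σ) := pw_add _ _ _

theorem Fr_parts_mem (g : Perm α) :
    Fr N g.partition.parts ∈ Sp (Fin N) (tri N + Fintype.card α) := by
  simpa only [g.partition.parts_sum] using Fr_mem (N := N) g.partition.parts

/-- The class function with label `β`. -/
def th (β : Fin N → ℤ) (g : Perm α) : ℂ := Fr N g.partition.parts β

theorem isGeneralizedCharacter_th (β : Fin N → ℤ) : IsGeneralizedCharacter (Perm α) (th β) := by
  have : (th β : Perm α → ℂ) = ∑ σ : Perm (Fin N), ((Perm.sign σ : ℤ) : ℂ) •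
      fun g : Perm α => (Nat.card (MulAction.fixedBy (Fib α (β - stair N ∘ σ)) g) : ℂ) := by
    ext g
    simp [th, Fr, alt_eq_sum, Finset.sum_apply, pw_partition_single, sg]
  rw [this]
  exact .sum fun σ _ => (isCharacter_permChar _).isGeneralizedCharacter.intCast_smul _

theorem th_comp (β : Fin N → ℤ) (σ : Perm (Fin N)) :
    (th (β ∘ σ) : Perm α → ℂ) = (sg σ : ℂ) • th β := by
  ext g; simp [th, (Fr_mem _).1 β σ]

theorem conj_th (β : Fin N → ℤ) (g : Perm α) : conj (th β g) = th β g := by simp [th]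

/-- The finite set containing all labels. -/
noncomputable def box (α : Type*) [Fintype α] (N : ℕ) : Finset (Fin N → ℤ) :=
  Fintype.piFinset fun _ => Icc 0 (tri N + Fintype.card α)

theorem sum_th_mul (hN : Fintype.card α ≤ N) (g h : Perm α) :
    ∑ β ∈ box α N, th β g * th β h =
      N.factorial * ∑ χ : IrrCharacter (Perm α), (χ : Perm α → ℂ) g * conj ((χ : Perm α → ℂ) h) := by
  have h1 := ip_pw (alt_stair_mem N) (ρ := g.partition.parts) (σ := h.partition.parts)
    (fun e => (g.partition.parts_pos e).false) (fun e => (h.partition.parts_pos e).false)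
    (by simp only [Nat.Partition.parts_sum]) 
    (by simpa only [Nat.Partition.parts_sum, Fintype.card_fin] using hN)
  rw [ip_alt (stair_val N).1, Fintype.card_fin, zee_partition] at h1
  have h3 : IsConj g h ↔ g.partition.parts = h.partition.parts :=
    Perm.partition_eq_of_isConj.trans Nat.Partition.ext_iff
  have h2 := ip_eq_sum (Fr_parts_mem (N := N) g) (Fr N h.partition.parts)
  simp only [th, ← Rat.cast_mul, ← Rat.cast_sum, box]
  rw [← h2, Fr, Fr, h1]
  split_ifs with e
  · rw [column_orthogonality_of_isConj (h3.2 e)]; push_cast; ring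
  · rw [column_orthogonality_of_not_isConj (h3.not.2 e)]; simp

theorem sum_inner_smul_th (hN : Fintype.card α ≤ N) (χ : IrrCharacter (Perm α)) :
    ∑ β ∈ box α N, classInner (χ : Perm α → ℂ) (th β) • th β =
      (N.factorial : ℂ) • (χ : Perm α → ℂ) := by
  ext g
  have h1 := χ.isCharacter.isClassFunction.apply_eq_sum_irr g
  simp only [Finset.sum_apply, Pi.smul_apply, smul_eq_mul, classInner_def, conj_th, mul_sum,
    sum_mul] at h1 ⊢
  rw [sum_comm, h1, sum_comm (s := (univ : Finset (IrrCharacter (Perm α)))), mul_sum]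
  refine sum_congr rfl fun h _ => ?_
  have h2 := sum_th_mul hN g h
  rw [sum_congr rfl (g := fun β => ((Nat.card (Perm α) : ℂ)⁻¹ * (χ : Perm α → ℂ) h) *
    (th β g * th β h)) fun _ _ => by ring, ← mul_sum, h2, mul_sum, mul_sum, mul_sum]
  exact sum_congr rfl fun _ _ => by ring

theorem val_of_th_ne (h : (th β : Perm α → ℂ) ≠ 0) :
    Val β ∧ ∑ i, β i = tri N + Fintype.card α ∧ β ∈ box α N := by
  obtain ⟨g, hg⟩ := Function.ne_iff.1 h
  have h1 : Fr N g.partition.parts β ≠ 0 := fun e => hg (by simp [th, e])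
  exact ⟨Sp.val (Fr_parts_mem g) h1, Sp.sum (Fr_parts_mem g) h1, Sp.subset (Fr_parts_mem g) h1⟩

/-- `β` is a label of the irreducible character `χ`. -/
def IsLab (χ : IrrCharacter (Perm α)) (β : Fin N → ℤ) : Prop :=
  ∃ ε : ℤ, (ε = 1 ∨ ε = -1) ∧ (th β : Perm α → ℂ) = (ε : ℂ) • (χ : Perm α → ℂ)

variable {χ ψ : IrrCharacter (Perm α)}

theorem IsLab.inner_sq (h : IsLab χ β) : classInner (χ : Perm α → ℂ) (th β) ^ 2 = 1 := by
  obtain ⟨ε, h1, h2⟩ := h
  rw [h2, classInner_smul_right, χ.2.classInner_self]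
  rcases h1 with rfl | rfl <;> simp

theorem IsLab.inner_ne (h : IsLab χ β) : classInner (χ : Perm α → ℂ) (th β) ≠ 0 := fun e => by
  simpa [e] using h.inner_sq

theorem IsLab.th_ne (h : IsLab χ β) : (th β : Perm α → ℂ) ≠ 0 := fun e => by
  simpa [e] using h.inner_ne

theorem IsLab.val (h : IsLab χ β) : Val β := (val_of_th_ne h.th_ne).1

theorem IsLab.sum (h : IsLab χ β) : ∑ i, β i = tri N + Fintype.card α := (val_of_th_ne h.th_ne).2.1

theorem IsLab.eq (h : IsLab χ β) (h' : IsLab ψ β) : χ = ψ := by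
  obtain ⟨ε, -, h2⟩ := h'
  have := h.inner_ne
  rw [h2, classInner_smul_right] at this
  exact Subtype.ext (χ.2.eq_of_classInner_ne_zero ψ.2 (right_ne_zero_of_mul this))

theorem IsLab.comp (h : IsLab χ β) (σ : Perm (Fin N)) : IsLab χ (β ∘ σ) := by
  obtain ⟨ε, h1, h2⟩ := h
  refine ⟨Perm.sign σ * ε, ?_, by rw [th_comp, h2, smul_smul]; simp [sg]⟩
  rcases Int.units_eq_one_or (Perm.sign σ) with h | h <;> rcases h1 with rfl | rfl <;> simp [h]

theorem lab_of_inner_ne (hN : Fintype.card α ≤ N) (h : classInner (χ : Perm α → ℂ) (th β) ≠ 0) :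
    IsLab χ β ∧ ∀ γ, classInner (χ : Perm α → ℂ) (th γ) ≠ 0 → ∃ σ : Perm (Fin N), γ = β ∘ σ := by
  choose m hm using fun γ : Fin N → ℤ =>
    χ.isGeneralizedCharacter.exists_int_classInner (isGeneralizedCharacter_th γ)
  have hm' : ∀ γ, classInner (th γ) (χ : Perm α → ℂ) = m γ := fun γ => by
    rw [(isGeneralizedCharacter_th γ).classInner_comm χ.isGeneralizedCharacter, hm]
  have hc : ∀ σ : Perm (Fin N), (m (β ∘ σ) : ℂ) = sg σ * m β := fun σ => by
    rw [← hm', th_comp, classInner_smul_left, hm']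
  have hv : ∀ γ, m γ ≠ 0 → Val γ ∧ ∑ i, γ i = tri N + Fintype.card α ∧ γ ∈ box α N := fun γ e =>
    val_of_th_ne fun e' => e (by have := hm γ; rw [e'] at this; exact_mod_cast (by simpa using this.symm))
  have h0 : m β ≠ 0 := fun e => h (by rw [hm, e, Int.cast_zero])
  have hc' : ∀ σ : Perm (Fin N), m (β ∘ σ) ^ 2 = m β ^ 2 := fun σ => by
    have : ((m (β ∘ σ) ^ 2 : ℤ) : ℂ) = (m β ^ 2 : ℤ) := by
      push_cast; rw [hc]; rcases sg_cases σ with e | e <;> simp [e]
    exact_mod_cast this
  have h1 := sum_inner_smul_th hN χ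
  have h2 : ∑ γ ∈ box α N, m γ ^ 2 = N.factorial := by
    have := congrArg (classInner · (χ : Perm α → ℂ)) h1
    simp only [classInner_sum_left, classInner_smul_left, hm, hm', χ.2.classInner_self] at this
    exact_mod_cast (by simpa [sq] using this : ((∑ γ ∈ box α N, m γ ^ 2 : ℤ) : ℂ) = N.factorial)
  let O := univ.image fun σ : Perm (Fin N) => β ∘ σ
  have hO : O ⊆ box α N := fun γ hγ => by
    obtain ⟨σ, -, rfl⟩ := mem_image.1 hγ
    exact (hv _ fun e => h0 (by simpa [e] using (hc' σ).symm)).2.2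
  have hs : ∀ {A : Type _} [AddCommMonoid A] (f : (Fin N → ℤ) → A),
      ∑ γ ∈ O, f γ = ∑ σ : Perm (Fin N), f (β ∘ σ) := fun f =>
    sum_image fun _ _ _ _ e => comp_injective (hv β h0).1.1 e
  rw [← sum_sdiff hO, hs] at h2
  simp only [hc', sum_const, card_univ, Fintype.card_perm, Fintype.card_fin, nsmul_eq_mul] at h2
  have h3 : 0 ≤ ∑ γ ∈ box α N \ O, m γ ^ 2 := sum_nonneg fun _ _ => sq_nonneg _
  have h4 : 1 ≤ m β ^ 2 := by have := sq_pos_of_ne_zero h0; omega
  have h5 : (0 : ℤ) < N.factorial := by positivity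
  have h6 : m β ^ 2 = 1 := by nlinarith
  have h7 : ∀ γ ∈ box α N \ O, m γ = 0 := fun γ hγ => pow_eq_zero_iff two_ne_zero |>.1
    ((sum_eq_zero_iff_of_nonneg fun _ _ => sq_nonneg _).1 (by nlinarith) γ hγ)
  refine ⟨⟨m β, sq_eq_one_iff.1 h6, ?_⟩, fun γ hγ => ?_⟩
  · rw [← sum_sdiff hO, sum_eq_zero fun γ hγ => by rw [hm, h7 γ hγ, Int.cast_zero, zero_smul],
      zero_add, sum_image fun _ _ _ _ e => comp_injective (hv β h0).1.1 e,
      sum_congr rfl (g := fun _ => (m β : ℂ) • th β) fun σ _ => by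
        rw [hm, hc, th_comp, smul_smul, mul_right_comm, ← Rat.cast_mul, sg_mul_self]; simp] at h1
    simp only [sum_const, card_univ, Fintype.card_perm, Fintype.card_fin,
      ← Nat.cast_smul_eq_nsmul ℂ] at h1
    rw [← smul_right_injective _ (Nat.cast_ne_zero.2 N.factorial_ne_zero) h1, smul_smul, ← sq,
      ← Int.cast_pow, h6, Int.cast_one, one_smul]
  · have hγ' : m γ ≠ 0 := fun e => hγ (by rw [hm, e, Int.cast_zero])
    by_contra hn
    refine hγ' (h7 γ (mem_sdiff.2 ⟨(hv γ hγ').2.2, fun e => hn ?_⟩))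
    obtain ⟨σ, -, rfl⟩ := mem_image.1 e
    exact ⟨σ, rfl⟩

theorem exists_lab (hN : Fintype.card α ≤ N) (χ : IrrCharacter (Perm α)) :
    ∃ β : Fin N → ℤ, IsLab χ β := by
  by_contra hn
  have h := sum_inner_smul_th hN χ
  rw [sum_eq_zero fun β _ => smul_eq_zero_of_left
    (by_contra fun e => hn ⟨β, (lab_of_inner_ne hN e).1⟩) _] at h
  exact smul_ne_zero (Nat.cast_ne_zero.2 N.factorial_ne_zero) χ.2.ne_zero h.symm

theorem IsLab.exists_perm (hN : Fintype.card α ≤ N) (h : IsLab χ β) (h' : IsLab χ γ) :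
    ∃ σ : Perm (Fin N), γ = β ∘ σ := (lab_of_inner_ne hN h.inner_ne).2 γ h'.inner_ne

theorem exists_irr_of_ne (hN : Fintype.card α ≤ N) (h : (th β : Perm α → ℂ) ≠ 0) :
    ∃ χ : IrrCharacter (Perm α), IsLab χ β := by
  obtain ⟨χ, hχ⟩ := (isGeneralizedCharacter_th β).isClassFunction.exists_classInner_ne_zero h
  exact ⟨χ, (lab_of_inner_ne hN (classInner_eq_zero_comm.not.1 hχ)).1⟩

/-- The hook length formula for the degrees. -/
theorem th_one_mul_Hk (hβ : Val β) (hs : ∑ i, β i = tri N + Fintype.card α) :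
    ∃ ε : ℚ, (ε = 1 ∨ ε = -1) ∧
      th β (1 : Perm α) * Hk 1 β = ε * (Fintype.card α).factorial := by
  have h0 : wt 1 (stair N) = 0 := by
    have h1 := sum_eq_core (p := 1) (stair N)
    have h2 := ((stair_val N).core one_pos).tri_le
    have h3 := (stair_val N).wt_nonneg one_pos
    have h4 := Sp.sum (alt_stair_mem N) (β := stair N) (by simp [alt_self (stair_val N).1])
    simp only [Nat.cast_one, one_mul] at h1
    omega
  have hc : cnt 1 β = cnt 1 (stair N) := by ext r; simp [cnt]
  obtain ⟨σ, hσ⟩ := exists_perm_core one_pos (stair_val N) hβ hc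
  rw [(stair_val N).core_eq one_pos h0] at hσ
  have h1 : ∑ i, core 1 β i = tri (Fintype.card (Fin N)) := by
    rw [hσ]
    exact (Equiv.sum_comp σ _).trans
      (Sp.sum (alt_stair_mem N) (β := stair N) (by simp [alt_self (stair_val N).1]))
  have h2 := pw_alt_mul_Hk one_pos hβ (w := Fintype.card α)
    (wt_eq one_pos hβ hβ rfl (by rw [hs, h1]; simp))
  have h3 := pw_replicate_apply one_pos hβ (h1 ▸ alt_stair_mem N) (Fintype.card α)
  refine ⟨sg σ, sg_cases σ, ?_⟩
  rw [th, Perm.parts_partition, Fr]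
  simp only [Perm.cycleType_one, Perm.support_one, card_empty, zero_add, Nat.sub_zero]
  rw [h3, ← Rat.cast_natCast, ← Rat.cast_mul, mul_assoc, h2, hσ, anti_alt,
    alt_self (stair_val N).1]
  simp

theorem exists_irr (hN : Fintype.card α ≤ N) (hβ : Val β)
    (hs : ∑ i, β i = tri N + Fintype.card α) : ∃ χ : IrrCharacter (Perm α), IsLab χ β := by
  refine exists_irr_of_ne hN fun e => ?_
  obtain ⟨ε, h1, h2⟩ := th_one_mul_Hk hβ hs
  have := (Fintype.card α).factorial_ne_zero
  rcases h1 with rfl | rfl <;> simp [e] at h2 <;> norm_cast at h2 <;> omega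

theorem IsLab.charDegree_mul (h : IsLab χ β) :
    charDegree (χ : Perm α → ℂ) * Hk 1 β = (Fintype.card α).factorial := by
  obtain ⟨ε, h1, h2⟩ := th_one_mul_Hk h.val h.sum
  obtain ⟨η, h3, h4⟩ := h
  rw [h4, Pi.smul_apply, smul_eq_mul, ← χ.isCharacter.coe_charDegree, mul_assoc,
    ← Nat.cast_mul] at h2
  have h5 := congrArg norm h2
  rcases h1 with rfl | rfl <;> rcases h3 with rfl | rfl <;>
    simpa only [norm_mul, Int.cast_one, Int.cast_neg, Rat.cast_one, Rat.cast_neg, norm_neg,
      norm_one, one_mul, Complex.norm_natCast, Nat.cast_inj, ← Nat.cast_mul] using h5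

end Cfsg.Agent.SnCh
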