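import Mathlib
import Cfsg.Agent.Blk.Subsection
import Cfsg.Agent.Blk.Harada
import Cfsg.Agent.Blk.Induced
import Cfsg.Agent.Blk.Contrib2
import Cfsg.Agent.Blk.CoverDict
import Cfsg.Agent.Blk.Pim

/-!
# General block-theoretic lemmas used for symmetric and alternating groups
-/

set_option autoImplicit false

namespace Cfsg.Agent.SnCh

open Finset Cfsg.Agent.Ch Cfsg.Agent.Blk
open scoped ComplexConjugate

variable {G : Type*} [Group G] [Fintype G] {p : ℕ} {M : Ideal AlgInt} {B : Set (IrrCharacter G)}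

theorem classInner_pReg_eq_zero {κ : Type*} (S : Finset κ) (t : κ → G → ℂ)
    (hK : ∀ x y, ¬ p ∣ orderOf x → p ∣ orderOf y → ∑ a ∈ S, conj (t a x) * t a y = 0) {θ : G → ℂ}
    (h : ∀ a ∈ S, classInner θ (t a) = 0) {a : κ} (ha : a ∈ S) :
    classInner (pRegularPart p θ) (t a) = 0 := by
  have h1 : ∑ a ∈ S, classInner (pRegularPart p θ) (t a) *
      conj (classInner (pRegularPart p θ - θ) (t a)) = 0 := by
    simp only [classInner_def, map_mul, map_sum, mul_sum, sum_mul, Complex.conj_conj]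
    rw [sum_comm]
    refine sum_eq_zero fun y _ => ?_
    rw [sum_comm]
    refine sum_eq_zero fun x _ => ?_
    by_cases hx : p ∣ orderOf x
    · simp [pRegularPart_of_dvd θ hx]
    by_cases hy : p ∣ orderOf y
    · rw [sum_congr rfl (g := fun a => ((Nat.card G : ℂ)⁻¹ * pRegularPart p θ x *
        conj (Nat.card G : ℂ)⁻¹ * conj ((pRegularPart p θ - θ) y)) * (conj (t a x) * t a y))
        fun _ _ => by ring, ← mul_sum, hK x y hx hy, mul_zero]
    · simp [pRegularPart_of_not_dvd θ hy]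
  rw [sum_congr rfl fun a ha => by
    rw [classInner_sub_left, h a ha, sub_zero, Complex.mul_conj]] at h1
  have h2 : ∑ a ∈ S, Complex.normSq (classInner (pRegularPart p θ) (t a)) = 0 := by
    exact_mod_cast h1
  exact Complex.normSq_eq_zero.1
    ((sum_eq_zero_iff_of_nonneg fun _ _ => Complex.normSq_nonneg _).1 h2 a ha)

section Local

variable [Fact p.Prime] {x : G} {E : Subgroup G}

omit [Fact p.Prime] in
theorem exists_induced (hM : IsPModular p M) (hB : IsPBlock M B) {χ : IrrCharacter G}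
    (hχ : χ ∈ B) (hx : ∃ k : ℕ, orderOf x = p ^ k) (h : (χ : G → ℂ) x ≠ 0)
    [Fintype (Subgroup.centralizer ({x} : Set G))] :
    ∃ b, IsInducedBlock M (Subgroup.centralizer ({x} : Set G)) b B ∧
      blockPart b (fun c => (χ : G → ℂ) (x * c)) 1 ≠ 0 := by
  have h1 := irr_mul_eq_sum hM hx (mem_centralizer_singleton_iff' x) hB hχ (y := 1)
    (by simpa using hM.prime.one_lt.ne')
  rw [Subgroup.coe_one, mul_one] at h1
  obtain ⟨b, -, hb⟩ := exists_ne_zero_of_sum_ne_zero (h1 ▸ h)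
  split_ifs at hb with e
  · exact ⟨b, e, hb⟩
  · exact (hb rfl).elim

omit [Fintype G] [Fact p.Prime] in
theorem normal_subgroupOf_cent (hN : ∀ c, c * x = x * c → ∀ e ∈ E, c * e * c⁻¹ ∈ E) :
    (E.subgroupOf (Subgroup.centralizer ({x} : Set G))).Normal :=
  ⟨fun e he c => hN c ((mem_centralizer_singleton_iff' x c).1 c.2) e he⟩

theorem mem_of_proportional (hM : IsPModular p M) (hB : IsPBlock M B) {χ ψ : IrrCharacter G}
    (hχ : χ ∈ B) (hx : ∃ k : ℕ, orderOf x = p ^ k) (h : (χ : G → ℂ) x ≠ 0) (hE : IsPGroup p E)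
    (hEx : E ≤ Subgroup.centralizer ({x} : Set G))
    (hN : ∀ c, c * x = x * c → ∀ e ∈ E, c * e * c⁻¹ ∈ E) {a : ℂ} (ha : a ≠ 0)
    (hψ : ∀ y, ¬ p ∣ orderOf y → y ∈ Subgroup.centralizer (E : Set G) →
      (ψ : G → ℂ) (x * y) = a * (χ : G → ℂ) (x * y)) : ψ ∈ B := by
  classical
  have := hM.isMaximal
  obtain ⟨b, h1, h2⟩ := exists_induced hM hB hχ hx h
  have hC := mem_centralizer_singleton_iff' x
  have := normal_subgroupOf_cent hN
  by_contra hn
  have h3 := second_main_of_notMem hM hx hC h1 hn (y := 1) (by simpa using hM.prime.one_lt.ne')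
  rw [← sum_blockCoeff_mul_classFun b
    (isClassFunction_translate hC (IrrCharacter.isCharacter _).isClassFunction)] at h2 h3
  refine mul_ne_zero ha h2 ?_
  rw [← h3, mul_sum]
  refine sum_congr rfl fun k _ => ?_
  by_cases h0 : blockCoeff b k = 0
  · simp [h0]
  have hE' : IsPGroup p (E.subgroupOf (Subgroup.centralizer ({x} : Set G))) := hE.comap_subtype
  have h4 := Om.mem_centralizer_of_blockCoeff_ne_zero
    (fun g hg => Om.blockCoeff_eq_zero_of_dvd hM h1.1 hg) hE' h0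
  rw [mul_one, hψ k (fun e => h0 (Om.blockCoeff_eq_zero_of_dvd hM h1.1
    (by rwa [Subgroup.orderOf_coe] at e))) fun e he =>
      congrArg Subtype.val (h4 ⟨e, hEx he⟩ he), mul_left_comm]

theorem exists_conj_le_of_ne (hM : IsPModular p M) (hB : IsPBlock M B) {D : Subgroup G}
    (hD : IsDefectGroup p M B D) {χ : IrrCharacter G} (hχ : χ ∈ B)
    (hx : ∃ k : ℕ, orderOf x = p ^ k) (h : (χ : G → ℂ) x ≠ 0) (hE : IsPGroup p E)
    (hEx : E ≤ Subgroup.centralizer ({x} : Set G))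
    (hN : ∀ c, c * x = x * c → ∀ e ∈ E, c * e * c⁻¹ ∈ E) {R : Subgroup G} (hR : IsPGroup p R)
    (hY : ∀ y, ¬ p ∣ orderOf y → y ∈ Subgroup.centralizer (E : Set G) →
      R ≤ Subgroup.centralizer ({y} : Set G)) :
    ∃ g : G, R.map (MulAut.conj g).toMonoidHom ≤ D := by
  classical
  have := hM.isMaximal
  obtain ⟨b, h1, -⟩ := exists_induced hM hB hχ hx h
  have := normal_subgroupOf_cent hN
  obtain ⟨Q, hQ⟩ := h1.1.exists_isDefectGroup p
  obtain ⟨P, hP, h2⟩ := h1.exists_isDefectGroup_ge hM hQ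
  have hE' : IsPGroup p (E.subgroupOf (Subgroup.centralizer ({x} : Set G))) := hE.comap_subtype
  have h3 : E ≤ P := fun e he => h2 ⟨⟨e, hEx he⟩, hQ.normal_le hM h1.1 hE' he, rfl⟩
  obtain ⟨y, h4, h5⟩ := Mod.br_ne_zero_iff.1 ((hB.br_eps_ne_zero_iff hM hE).2 ⟨P, hP, h3⟩)
  exact hD.exists_conj_le_of_coeff hM hB h5 hR
    (hY y (Om.not_dvd_orderOf_of_blockCoeff hM hB (coeff_eps_ne_zero_iff.1 h5).2) h4)

end Local

end Cfsg.Agent.SnCh
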