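import Mathlib
import Cfsg.Agent.SnCh.Frob
import Cfsg.Agent.SnCh.Dim
import Cfsg.Agent.SnCh.Gen

/-!
# Blocks of symmetric groups: labels in a block have the same core, and the bound on `l(B)`
-/

set_option autoImplicit false

namespace Cfsg.Agent.SnCh

open Finset Equiv Module Cfsg.Agent.Ch Cfsg.Agent.Blk
open scoped ComplexConjugate

universe u

variable {α : Type u} [Fintype α] [DecidableEq α] {p N : ℕ} {β γ : Fin N → ℤ}
  {M : Ideal AlgInt} {B : Set (IrrCharacter (Perm α))} {χ ψ : IrrCharacter (Perm α)}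

theorem dvd_orderOf_of_mem_parts {x : Perm α} {k : ℕ} (h : k ∈ x.partition.parts) :
    k ∣ orderOf x := by
  rcases Multiset.mem_add.1 h with h | h
  · exact Perm.dvd_of_mem_cycleType h
  · simp [Multiset.eq_of_mem_replicate h]

theorem D_Fr_eq_zero (hN : Fintype.card α ≤ N) {x : Perm α} (hx : ¬ p ∣ orderOf x) {k : ℕ}
    (hk : 0 < k) (h : p ∣ k) : D k (Fr N x.partition.parts) = 0 := by
  rw [Fr, D_pw (alt_stair_mem N) hk (by simpa [Nat.Partition.parts_sum] using hN),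
    Multiset.count_eq_zero.2 fun e => hx (h.trans (dvd_orderOf_of_mem_parts e))]
  simp

theorem proj_Fr_mem_Kw (hp : 0 < p) (hN : Fintype.card α ≤ N)
    (hs : ∑ i, β i = tri N + Fintype.card α) {w : ℕ} (hw : wt p β = w) {x : Perm α}
    (hx : ¬ p ∣ orderOf x) : proj p (cnt p β) (Fr N x.partition.parts) ∈ Kw p β w := by
  refine mem_Kw.2 ⟨?_, fun j hj => ?_⟩
  · rw [← hw, ← sum_eq_core, hs]
    exact Sp.proj (Fr_parts_mem x) _
  · have := D_Fr_eq_zero hN hx (k := p * j) (by positivity) (dvd_mul_right _ _)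
    rw [D, ← proj_E _ _ (by simp), ← D, ← Nat.cast_mul, this, map_zero]

open Classical in
theorem sum_filter_th_mul (hp : p.Prime) (hN : Fintype.card α ≤ N) (c : ℤ → ℕ) {x y : Perm α}
    (hx : ¬ p ∣ orderOf x) (hy : p ∣ orderOf y) :
    ∑ a ∈ box α N with cnt p a = c, conj (th a x) * th a y = 0 := by
  obtain ⟨k, hk, h⟩ : ∃ k ∈ y.cycleType, p ∣ k := by
    rw [← Perm.lcm_cycleType] at hy
    exact (hp.prime.exists_mem_multiset_dvd (hy.trans (Multiset.lcm_dvd.2 fun _ =>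
      Multiset.dvd_prod)))
  obtain ⟨ρ, hρ⟩ := Multiset.exists_cons_of_mem
    (show k ∈ y.partition.parts from Multiset.mem_add.2 (.inl hk))
  have h1 : ip (Fr N y.partition.parts) (proj p c (Fr N x.partition.parts)) = 0 := by
    rw [hρ, Fr, pw_cons, ip_U (Sp.pw (alt_stair_mem N) ρ), D,
      ← proj_E _ _ (by simpa using by exact_mod_cast h), ← D, D_Fr_eq_zero hN hx (by have := Perm.two_le_of_mem_cycleType hk; omega) h]
    simp [ip]
  rw [ip_eq_sum (Fr_parts_mem y)] at h1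
  have h2 := congrArg (Rat.cast : ℚ → ℂ) h1
  rw [Rat.cast_sum, Rat.cast_zero] at h2
  rw [sum_filter]
  refine (sum_congr rfl fun a _ => ?_).trans h2
  rw [conj_th, proj_apply]
  split_ifs <;> simp [th, mul_comm]

theorem cnt_eq_of_mem (hM : IsPModular p M) (hB : IsPBlock M B) (hN : Fintype.card α ≤ N)
    (hχ : χ ∈ B) (hψ : ψ ∈ B) (h : IsLab χ β) (h' : IsLab ψ γ) : cnt p γ = cnt p β := by
  classical
  have := hM.isMaximal
  obtain ⟨η, hη, h0⟩ := Om.exists_height_zero (p := p) ⟨χ, hχ⟩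
  obtain ⟨δ, hδ⟩ := exists_lab hN η
  suffices H : ∀ {χ : IrrCharacter (Perm α)} {β : Fin N → ℤ}, χ ∈ B → IsLab χ β →
      cnt p β = cnt p δ from (H hψ h').trans (H hχ h).symm
  intro χ β hχ h
  by_contra hn
  have h1 := classInner_pReg_eq_zero (p := p) ({a ∈ box α N | cnt p a = cnt p β}) th
    (fun x y => sum_filter_th_mul hM.prime hN _) (θ := η) (fun a ha => by
      by_contra e
      obtain ⟨σ, rfl⟩ := hδ.exists_perm hN (lab_of_inner_ne hN e).1
      exact hn ((mem_filter.1 ha).2.symm.trans (cnt_comp _ _))) (a := β)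
    (mem_filter.2 ⟨(val_of_th_ne h.th_ne).2.2, rfl⟩)
  obtain ⟨ε, hε, e⟩ := h
  rw [e, classInner_smul_right] at h1
  refine Om.contr_ne_zero_of_height_zero hM hB hη hχ h0 ((mul_eq_zero.1 h1).resolve_left ?_)
  rcases hε with rfl | rfl <;> simp

theorem blockRank_le_Kw (hM : IsPModular p M) (hB : IsPBlock M B) (hN : Fintype.card α ≤ N)
    (hχ : χ ∈ B) (h : IsLab χ β) {w : ℕ} (hw : wt p β = w) :
    blockRank p B ≤ finrank ℚ (Kw p β w) := by
  classical
  let b := Module.finBasis ℚ (Kw p β w)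
  let c : Fin (finrank ℚ (Kw p β w)) → Perm α → ℂ := fun i x =>
    if hx : p ∣ orderOf x then 0 else
      b.repr ⟨_, proj_Fr_mem_Kw hM.prime.pos hN h.sum hw hx⟩ i
  refine (Submodule.finrank_mono (t := Submodule.span ℂ (Set.range c)) ?_).trans
    ((finrank_range_le_card c).trans (Fintype.card_fin _).le)
  rw [Submodule.span_le]
  rintro _ ⟨ψ, hψ, rfl⟩
  obtain ⟨γ, h'⟩ := exists_lab hN ψ
  have hc := cnt_eq_of_mem hM hB hN hχ hψ h h'
  obtain ⟨ε, hε, e⟩ := h'
  refine (Submodule.mem_span_range_iff_exists_fun _).2 ⟨fun i => ε * ((b i).1 γ : ℚ), ?_⟩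
  ext x
  by_cases hx : p ∣ orderOf x
  · simp [c, hx, pRegularPart_of_dvd _ hx]
  have h1 := congrFun (congrArg Subtype.val
    (b.sum_repr ⟨_, proj_Fr_mem_Kw hM.prime.pos hN h.sum hw hx⟩)) γ
  have h2 := congrFun e x
  simp only [proj_apply, hc, if_true, Submodule.coe_sum, Finset.sum_apply, Submodule.coe_smul,
    Pi.smul_apply, smul_eq_mul] at h1 h2
  rw [th, ← h1] at h2
  simp only [c, hx, pRegularPart_of_not_dvd _ hx, Finset.sum_apply, Pi.smul_apply, smul_eq_mul,
    dif_neg, not_false_eq_true, mul_assoc, ← mul_sum]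
  push_cast at h2
  rw [sum_congr rfl fun _ _ => mul_comm _ _, h2]
  rcases hε with rfl | rfl <;> simp

end Cfsg.Agent.SnCh
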