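import Mathlib
import Cfsg.Agent.SnCh.Block
import Cfsg.Agent.Sym.Sylow
import Cfsg.Agent.Blk.DefectCard
import Cfsg.Agent.FG.SectRank

/-!
# Blocks of symmetric groups: the Nakayama conjecture, defect groups and heights
-/

set_option autoImplicit false

namespace Cfsg.Agent.SnCh

open Finset Equiv Module Cfsg.Agent.Ch Cfsg.Agent.Blk Cfsg.Agent.Sym
open scoped ComplexConjugate Pointwise

universe u

theorem pw_dvd_apply {ι : Type*} [Fintype ι] [DecidableEq ι] {p : ℕ} {β : ι → ℤ} {F : V ι}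
    (hp : 0 < p) (hβ : Val β) (hF : F ∈ Sp ι (∑ i, core p β i)) {ρ : Multiset ℕ}
    (hρ : ∀ k ∈ ρ, p ∣ k) : pw ρ F β = F (core p β) * pw ρ (alt (core p β)) β := by
  have h : ∀ G : V ι, proj p (cnt p β) (pw ρ G) = pw ρ (proj p (cnt p β) G) := fun G => by
    induction ρ using Multiset.induction_on with
    | empty => rfl
    | cons k ρ ih =>
      rw [pw_cons, pw_cons, U, proj_E _ _ (by exact_mod_cast hρ k (by simp)),
        ih fun k hk => hρ k (by simp [hk])]
  have h1 := congrFun (h F) β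
  rw [proj_apply, if_pos rfl, Sc.eq_smul hp hβ (Sp.proj hF _), map_smul, proj_apply,
    if_pos (cnt_core β)] at h1
  exact h1

section Perm

variable {α J : Type*} {p : ℕ} [Fact p.Prime] (ι : J × ZMod p ↪ α)

/-- A product of disjoint `p`-cycles. -/
noncomputable def xx : Perm α := wrEmb ι 1 fun _ => 1

theorem xx_pow (k : ℕ) (i : J) (s : ZMod p) : (xx ι ^ k) (ι (i, s)) = ι (i, k + s) := by
  simp [xx, wrEmb_one_pow, wrEmb_apply]

theorem xx_pow_p : xx ι ^ p = 1 := by
  rw [xx, wrEmb_one_pow, ← wrEmb_one ι]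
  congr 1; ext; simp

theorem orderOf_xx : ∃ k : ℕ, orderOf (xx ι) = p ^ k :=
  ((Nat.dvd_prime_pow (m := 1) Fact.out).1
    (by simpa using orderOf_dvd_of_pow_eq_one (xx_pow_p ι))).imp fun _ h => h.2

theorem xx_apply_ne {a : α} : xx ι a ≠ a ↔ a ∈ Set.range ι := by
  refine ⟨fun h => by_contra fun e => h (wrEmb_apply_of_not_mem ι _ _ e), ?_⟩
  rintro ⟨⟨i, s⟩, rfl⟩
  simp [xx, wrEmb_apply]

theorem wr_bot_comm {a b : Perm α} (ha : a ∈ wr ι ⊥) (hb : b ∈ wr ι ⊥) : a * b = b * a := by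
  obtain ⟨_, rfl, v, rfl⟩ := ha
  obtain ⟨_, rfl, w, rfl⟩ := hb
  simp [wrEmb_mul, add_comm]

theorem xx_mem (Q : Subgroup (Perm J)) : xx ι ∈ wr ι Q := ⟨1, one_mem _, _, rfl⟩

variable {ι}

theorem exists_apply_of_comm [Finite J] {c : Perm α} (hc : c * xx ι = xx ι * c) :
    ∃ (σ : Perm J) (v : J → ZMod p), ∀ i s, c (ι (i, s)) = ι (σ i, v i + s) := by
  have h1 : ∀ i, ∃ j t, c (ι (i, 0)) = ι (j, t) := fun i => by
    obtain ⟨⟨j, t⟩, h⟩ : c (ι (i, 0)) ∈ Set.range ι := by
      rw [← xx_apply_ne, ← Perm.mul_apply, ← hc, Perm.mul_apply, c.injective.ne_iff, xx_apply_ne]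
      exact ⟨_, rfl⟩
    exact ⟨j, t, h.symm⟩
  choose σ v h1 using h1
  have h2 : ∀ i s, c (ι (i, s)) = ι (σ i, v i + s) := fun i s => by
    have h3 := congrArg (fun g : Perm α => g (ι (i, 0))) (Commute.pow_right hc s.val).eq
    simpa [xx_pow, h1, add_comm] using h3
  have h3 : Function.Injective σ := fun i j e => by
    have h4 : c (ι (i, v j)) = c (ι (j, v i)) := by rw [h2, h2, e, add_comm]
    exact (Prod.mk.inj (ι.injective (c.injective h4))).1
  exact ⟨Equiv.ofBijective σ h3.bijective_of_finite, v, h2⟩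

theorem conj_mem_wr_bot [Finite J] {c : Perm α} (hc : c * xx ι = xx ι * c) :
    ∀ e ∈ wr ι ⊥, c * e * c⁻¹ ∈ wr ι ⊥ := by
  obtain ⟨σ, v, h⟩ := exists_apply_of_comm hc
  rintro _ ⟨_, rfl, u, rfl⟩
  have h1 : ι.trans c.toEmbedding = ι.trans (wrEmb ι σ v).toEmbedding := by
    ext ⟨i, s⟩; simp [h, wrEmb_apply]
  rw [conj_wrEmb, h1, ← conj_wrEmb, wrEmb_conj_mem_wr]
  simp

theorem apply_eq_of_mem_centralizer [Finite J] {y : Perm α} (hy : ¬ p ∣ orderOf y)
    (h : y ∈ Subgroup.centralizer (wr ι ⊥ : Set (Perm α))) : ∀ a ∈ Set.range ι, y a = a := by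
  classical
  obtain ⟨σ, v, h1⟩ := exists_apply_of_comm (h _ (xx_mem ι ⊥)).symm
  rintro _ ⟨⟨i, s⟩, rfl⟩
  have h2 : σ i = i := by
    have h3 := congrArg (fun g : Perm α => g (ι (i, 0)))
      (h _ (⟨1, one_mem _, Pi.single i 1, rfl⟩ : wrEmb ι 1 (Pi.single i 1) ∈ wr ι ⊥))
    by_contra e
    simp [h1, wrEmb_apply, e] at h3
  have h3 : ∀ k : ℕ, (y ^ k) (ι (i, 0)) = ι (i, k * v i) := fun k => by
    induction k with
    | zero => simp
    | succ k ih => rw [pow_succ', Perm.mul_apply, ih, h1, h2]; congr 2; push_cast; ring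
  have h4 := h3 (orderOf y)
  simp only [pow_orderOf_eq_one, Perm.one_apply, ι.apply_eq_iff_eq, Prod.mk.injEq, true_and,
    zero_eq_mul, ZMod.natCast_eq_zero_iff, hy, false_or] at h4
  rw [h1, h2, h4, zero_add]

variable [Fintype α] [DecidableEq α] [Fintype J]

theorem card_support_xx (ι : J × ZMod p ↪ α) : #(xx ι).support = p * Fintype.card J := by
  rw [show (xx ι).support = univ.map ι by ext; simp [xx_apply_ne]]
  simp [mul_comm]

theorem cycleType_xx (ι : J × ZMod p ↪ α) :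
    (xx ι).cycleType = Multiset.replicate (Fintype.card J) p := by
  have h1 := Perm.cycleType_of_pow_prime_eq_one (xx_pow_p ι)
  have h2 := (xx ι).sum_cycleType
  rw [h1, card_support_xx, Multiset.sum_replicate, smul_eq_mul, mul_comm] at h2
  rw [h1, Nat.eq_of_mul_eq_mul_left (Fact.out : p.Prime).pos h2]

omit [Fintype α] [DecidableEq α] in
theorem isPGroup_wr (ι : J × ZMod p ↪ α) {Q : Subgroup (Perm J)} (hQ : IsPGroup p Q) :
    IsPGroup p (wr ι Q) := by
  classical
  obtain ⟨k, hk⟩ := hQ.exists_card_eq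
  exact IsPGroup.of_card (n := Nat.card J + k) (by rw [card_wr, hk, Nat.card_zmod, pow_add])

omit [Fintype α] [DecidableEq α] [Fintype J] [Fact p.Prime] in
theorem card_wr_bot_le {A G : Type*} [AddCommGroup A] [Finite J] [Group G] (ι : J × A ↪ α)
    (hA : ∀ a : A, p • a = 0) {s : ℕ} {D : Subgroup G} (hs : SectionalPRankLE p s D)
    {f : G →* Perm α} (h : wr ι ⊥ ≤ D.map f) :
    Nat.card A ^ Nat.card J ≤ p ^ s := by
  have h1 := FG.SR.subgroup_iff.1 (FG.SR.of_surjective hs _ (f.subgroupMap_surjective D))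
    ⊥ _ bot_le h (Subgroup.commutator_le.2 ?_) ?_
  · simpa [card_wr] using h1
  · rintro _ ⟨_, rfl, v, rfl⟩ _ ⟨_, rfl, w, rfl⟩
    simp [commutatorElement_eq_one_iff_mul_comm, wrEmb_mul, add_comm]
  · rintro _ ⟨_, rfl, v, rfl⟩
    rw [wrEmb_one_pow, show p • v = 0 from funext fun _ => hA _, wrEmb_one]
    exact one_mem _

end Perm

variable {α : Type u} [Fintype α] [DecidableEq α] {p N w : ℕ} {β γ : Fin N → ℤ}
  {M : Ideal AlgInt} {B : Set (IrrCharacter (Perm α))} {χ ψ : IrrCharacter (Perm α)}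

theorem th_mul (hp : 0 < p) (hβ : Val β) (hs : ∑ i, β i = tri N + Fintype.card α)
    (hw : wt p β = w) {g y : Perm α} (hd : g.Disjoint y) (hg : ∀ k ∈ g.cycleType, p ∣ k)
    (hc : #g.support = p * w) :
    th β (g * y) = (Fr N (y.cycleType + Multiset.replicate
      (Fintype.card α - p * w - #y.support) 1) (core p β) *
        pw g.cycleType (alt (core p β)) β : ℚ) := by
  have h1 := (g * y).support.card_le_univ
  rw [hd.card_support_mul, hc] at h1
  rw [th, Perm.parts_partition, hd.cycleType_mul, add_assoc, Fr_add, hd.card_support_mul, hc,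
    pw_dvd_apply hp hβ _ hg, Nat.sub_sub]
  convert Fr_mem _
  have h2 := sum_eq_core (p := p) β
  simp only [Multiset.sum_add, Perm.sum_cycleType, Multiset.sum_replicate, smul_eq_mul, mul_one]
  rw [hs, hw] at h2
  push_cast [Nat.cast_sub h1]
  linarith

omit [DecidableEq α] in
theorem mul_wt_le (hp : 0 < p) (hβ : Val β) (hs : ∑ i, β i = tri N + Fintype.card α)
    (hw : wt p β = w) : p * w ≤ Fintype.card α := by
  have h1 := sum_eq_core (p := p) β
  have h2 := (hβ.core hp).tri_le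
  rw [Fintype.card_fin] at h2
  rw [hs, hw] at h1
  zify; linarith

omit [DecidableEq α] in
theorem Fr_core_ne (hp : 0 < p) (hβ : Val β) (hs : ∑ i, β i = tri N + Fintype.card α)
    (hw : wt p β = w) :
    Fr N (Multiset.replicate (Fintype.card α - p * w) 1) (core p β) ≠ 0 := by
  have h1 := sum_eq_core (p := p) β
  obtain ⟨ε, h2, h3⟩ := th_one_mul_Hk (α := Fin (Fintype.card α - p * w)) (hβ.core hp) (by
    rw [Fintype.card_fin, Nat.cast_sub (mul_wt_le hp hβ hs hw)]
    push_cast; rw [hs, hw] at h1; linarith)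
  intro e
  simp only [th, Perm.parts_partition, Perm.cycleType_one, Perm.support_one, card_empty, zero_add,
    Nat.sub_zero, Fintype.card_fin, e] at h3
  have := (Fintype.card α - p * w).factorial_ne_zero
  rcases h2 with rfl | rfl <;> simp at h3 <;> norm_cast at h3
  all_goals omega

theorem IsLab.apply_ne (hp : 0 < p) (h : IsLab χ β) (hw : wt p β = w) {g : Perm α}
    (hg : ∀ k ∈ g.cycleType, p ∣ k) (hc : #g.support = p * w)
    (h0 : pw g.cycleType (alt (core p β)) β ≠ 0) : (χ : Perm α → ℂ) g ≠ 0 := by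
  have h1 := th_mul hp h.val h.sum hw (Perm.disjoint_one_right g) hg hc
  have h2 := Fr_core_ne hp h.val h.sum hw
  obtain ⟨ε, -, e⟩ := h
  intro h3
  simp [e, h3, h2, h0] at h1

variable [Fact p.Prime] {J : Type*} [Fintype J]

theorem IsLab.xx_ne (h : IsLab χ β) (ι : J × ZMod p ↪ α) (hw : wt p β = Fintype.card J) :
    (χ : Perm α → ℂ) (xx ι) ≠ 0 := by
  have hp := (Fact.out : p.Prime).pos
  refine h.apply_ne hp hw (by simp [cycleType_xx, Multiset.mem_replicate]) (card_support_xx ι) ?_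
  rw [cycleType_xx]
  exact left_ne_zero_of_mul ((pw_alt_mul_Hk hp h.val hw).trans_ne (by positivity))

theorem IsLab.exists_emb (h : IsLab χ β) (hw : wt p β = Fintype.card J) :
    Nonempty (J × ZMod p ↪ α) :=
  Function.Embedding.nonempty_of_card_le (by
    simpa [mul_comm] using mul_wt_le (Fact.out : p.Prime).pos h.val h.sum hw)

omit [Fact p.Prime] in
theorem IsLab.wt_eq (hp : 0 < p) (h : IsLab χ β) (h' : IsLab ψ γ) (hc : cnt p γ = cnt p β) :
    wt p γ = wt p β :=
  SnCh.wt_eq hp h.val h'.val hc (by rw [← sum_eq_core, h.sum, h'.sum])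

omit [Fact p.Prime] in
theorem exists_wt (hp : 0 < p) (hβ : Val β) : ∃ w : ℕ, wt p β = w :=
  ⟨_, (Int.toNat_of_nonneg (hβ.wt_nonneg hp)).symm⟩

/-- The Nakayama conjecture. -/
theorem mem_of_cnt_eq (hM : IsPModular p M) (hB : IsPBlock M B) (hχ : χ ∈ B) (h : IsLab χ β)
    (h' : IsLab ψ γ) (hc : cnt p γ = cnt p β) : ψ ∈ B := by
  have hp := (Fact.out : p.Prime).pos
  obtain ⟨w, hw⟩ := exists_wt hp h.val
  have hw' := (h.wt_eq hp h' hc).trans hw
  obtain ⟨ι⟩ := h.exists_emb (p := p) (J := Fin w) (by simpa)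
  obtain ⟨σ, hσ⟩ := exists_perm_core hp h.val h'.val hc
  have h1 := pw_alt_mul_Hk hp h.val hw
  have h2 := pw_alt_mul_Hk hp h'.val hw'
  have h3 := (Hk_pos hp β).ne'
  have h4 := (Hk_pos hp γ).ne'
  have hv := h.val
  have hs := h.sum
  have hv' := h'.val
  have hs' := h'.sum
  have h0 := h.xx_ne ι (by simpa)
  obtain ⟨ε, hε, e⟩ := h
  obtain ⟨ε', hε', e'⟩ := h'
  refine mem_of_proportional hM hB hχ (orderOf_xx ι) h0 (isPGroup_wr ι IsPGroup.of_bot)
    (fun a ha => (mem_centralizer_singleton_iff' _ _).2 (wr_bot_comm ι ha (xx_mem ι _)))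
    (fun c => conj_mem_wr_bot) (a := ε * ε' * sg σ * Hk p β / Hk p γ) ?_ fun y hy hC => ?_
  · have := sg_ne_zero σ
    rcases hε with rfl | rfl <;> rcases hε' with rfl | rfl <;> simp [*]
  have hd : (xx ι).Disjoint y := fun a => or_iff_not_imp_left.2 fun ha =>
    apply_eq_of_mem_centralizer hy hC a ((xx_apply_ne ι).1 ha)
  have h5 := th_mul hp hv hs hw hd (by simp [cycleType_xx, Multiset.mem_replicate])
    (by simp [card_support_xx])
  have h6 := th_mul hp hv' hs' hw' hd (by simp [cycleType_xx, Multiset.mem_replicate])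
    (by simp [card_support_xx])
  rw [cycleType_xx, Fintype.card_fin] at h5 h6
  rw [eq_div_of_mul_eq (by simpa) h1, e] at h5
  rw [eq_div_of_mul_eq (by simpa) h2, e', hσ, (Fr_mem _).1] at h6
  simp only [Pi.smul_apply, smul_eq_mul] at h5 h6
  push_cast at h5 h6
  rcases hε with rfl | rfl <;> rcases hε' with rfl | rfl <;> push_cast at h5 h6 ⊢ <;>
    simp only [one_mul, neg_mul, neg_eq_iff_eq_neg, mul_neg, mul_one, neg_neg] at h5 h6 ⊢ <;>
    rw [h5, h6] <;> field_simp

theorem exists_conj_le_defect (hM : IsPModular p M) (hB : IsPBlock M B) (hχ : χ ∈ B)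
    (h : IsLab χ β) (ι : J × ZMod p ↪ α) (hw : wt p β = Fintype.card J) {D : Subgroup (Perm α)}
    (hD : IsDefectGroup p M B D) {R : Subgroup (Perm α)} (hR : IsPGroup p R)
    (hι : ∀ r ∈ R, ∀ a ∉ Set.range ι, r a = a) :
    ∃ g, R.map (MulAut.conj g).toMonoidHom ≤ D :=
  exists_conj_le_of_ne hM hB hD hχ (orderOf_xx ι) (h.xx_ne ι hw) (isPGroup_wr ι IsPGroup.of_bot)
    (fun _ ha => (mem_centralizer_singleton_iff' _ _).2 (wr_bot_comm ι ha (xx_mem ι _)))
    (fun _ => conj_mem_wr_bot) hR fun _ hy hC r hr =>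
      (mem_centralizer_singleton_iff' _ _).2 (Perm.Disjoint.commute fun a =>
        (em (a ∈ Set.range ι)).symm.imp (hι r hr a) (apply_eq_of_mem_centralizer hy hC a)).eq

theorem IsLab.factorization_charDegree (h : IsLab χ β) (hw : wt p β = w) :
    (charDegree (χ : Perm α → ℂ)).factorization p + w + (Hk p β).factorization p =
      (Nat.card (Perm α)).factorization p := by
  have h1 := h.charDegree_mul
  have h2 := left_ne_zero_of_mul (h1.trans_ne (Nat.factorial_ne_zero _))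
  rw [Nat.card_perm, Nat.card_eq_fintype_card, ← h1, Nat.factorization_mul h2 (Hk_pos one_pos β).ne',
    Finsupp.add_apply, factorization_Hk_one Fact.out h.val hw, add_assoc]

theorem factorization_Hk_le (hβ : Val β) (hw : wt p β = w) :
    (Hk p β).factorization p ≤ w.factorial.factorization p :=
  (Nat.factorization_le_iff_dvd (Hk_pos (Fact.out : p.Prime).pos β).ne' w.factorial_ne_zero).2
    (Hk_dvd (Fact.out : p.Prime).pos hβ hw) p

theorem defect_eq_wr (hM : IsPModular p M) (hB : IsPBlock M B) (hN : Fintype.card α ≤ N)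
    (hχ : χ ∈ B) (h : IsLab χ β) (hw : wt p β = Fintype.card J) {D : Subgroup (Perm α)}
    (hD : IsDefectGroup p M B D) (Q : Sylow p (Perm J)) :
    blockDefect p B = Fintype.card J + (Fintype.card J).factorial.factorization p ∧
      ∃ ι : J × ZMod p ↪ α, D = wr ι Q := by
  classical
  have hp : p.Prime := Fact.out
  obtain ⟨ι⟩ := h.exists_emb hw
  obtain ⟨g, hg⟩ := exists_conj_le_defect hM hB hχ h ι hw hD (isPGroup_wr ι Q.isPGroup')
    (by rintro _ ⟨σ, -, v, rfl⟩ a; exact wrEmb_apply_of_not_mem ι _ _)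
  replace hg : wr (ι.trans g.toEmbedding) Q ≤ D := conj_smul_wr (ι := ι) g Q.1 ▸ hg
  have h1 : Nat.card (wr (ι.trans g.toEmbedding) Q) =
      p ^ (Fintype.card J + (Fintype.card J).factorial.factorization p) := by
    rw [card_wr, Q.card_eq_multiplicity, Nat.card_perm, Nat.card_zmod, Nat.card_eq_fintype_card,
      pow_add]
  obtain ⟨ψ, hψ, h2⟩ := Om.exists_minVal (p := p) ⟨χ, hχ⟩
  obtain ⟨γ, h'⟩ := exists_lab hN ψ
  have hw' := (h.wt_eq hp.pos h' (cnt_eq_of_mem hM hB hN hχ hψ h h')).trans hw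
  have h3 := h'.factorization_charDegree hw'
  have h4 := factorization_Hk_le h'.val hw'
  have h5 := Om.minVal_add_blockDefect (p := p) ⟨χ, hχ⟩
  have h6 := hD.card_eq_pow_blockDefect hM hB
  have h7 := Subgroup.card_le_of_le hg
  rw [h1, h6, Nat.pow_le_pow_iff_right hp.one_lt] at h7
  have h8 : blockDefect p B = _ := le_antisymm (by omega) h7
  exact ⟨h8, _, (Subgroup.eq_of_le_of_card_ge hg (by rw [h1, h6, h8])).symm⟩

theorem blockHeight_add (hM : IsPModular p M) (hB : IsPBlock M B) (hN : Fintype.card α ≤ N)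
    (hχ : χ ∈ B) (h : IsLab χ β) (hw : wt p β = w) :
    blockHeight p B (χ : Perm α → ℂ) + (Hk p β).factorization p = w.factorial.factorization p := by
  have := hM.isMaximal
  obtain ⟨D, hD⟩ := hB.exists_isDefectGroup p
  have h1 := (defect_eq_wr (J := Fin w) hM hB hN hχ h (by simpa) hD default).1
  have h2 := h.factorization_charDegree hw
  have h3 := Om.minVal_add_blockDefect (p := p) ⟨χ, hχ⟩
  have h4 := Om.minVal_add_blockHeight (p := p) hχ
  rw [Fintype.card_fin] at h1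
  omega

end Cfsg.Agent.SnCh
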