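import Mathlib
import Cfsg.Agent.SnCh.Local
import Cfsg.Agent.SnCh.Idx2
import Cfsg.Agent.Sym.SylowTwo

/-!
# Blocks of alternating groups
-/

set_option autoImplicit false

namespace Cfsg.Agent.SnCh

open Finset Equiv Module Cfsg.Agent.Ch Cfsg.Agent.Blk Cfsg.Agent.Sym
open scoped Pointwise

universe u

variable {α : Type u} [Fintype α] [DecidableEq α] {p N w : ℕ} {β γ : Fin N → ℤ}
  {M : Ideal AlgInt} {B : Set (IrrCharacter (Perm α))} {χ ψ : IrrCharacter (Perm α)}
  {b : Set (IrrCharacter (alternatingGroup α))} {D : Subgroup (alternatingGroup α)}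

theorem exists_cover (hM : IsPModular p M) (hb : IsPBlock M b) (hD : IsDefectGroup p M b D)
    (hN : Fintype.card α ≤ N) : ∃ (B : Set (IrrCharacter (Perm α))) (χ : IrrCharacter (Perm α))
      (β : Fin N → ℤ) (w : ℕ) (P : Subgroup (Perm α)), IsPBlock M B ∧
      Om.Covers (alternatingGroup α).subtype B b ∧ χ ∈ B ∧ IsLab χ β ∧ wt p β = w ∧
      IsDefectGroup p M B P ∧ P ⊓ alternatingGroup α = D.map (alternatingGroup α).subtype := by
  have := hM.isMaximal
  have := Fact.mk hM.prime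
  obtain ⟨B, hB, h⟩ := Om.exists_covers_over hb
  obtain ⟨χ, hχ⟩ := hB.nonempty
  obtain ⟨β, h1⟩ := exists_lab hN χ
  obtain ⟨w, hw⟩ := exists_wt hM.prime.pos h1.val
  obtain ⟨P, hP, h2⟩ := Cov.exists_isDefectGroup_inf_eq hM hB hb h (Subgroup.map_subtype_le D)
    (by rwa [Subgroup.subgroupOf,
      Subgroup.comap_map_eq_self_of_injective (Subgroup.subtype_injective _)])
  exact ⟨B, χ, β, w, P, hB, h, hχ, h1, hw, hP, h2⟩

theorem xx_notMem {J : Type*} [Fintype J] (ι : J × ZMod 2 ↪ α) (h : Odd (Fintype.card J)) :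
    xx ι ∉ alternatingGroup α := by
  rw [not_mem_alternatingGroup_iff, Perm.sign_of_cycleType, cycleType_xx]
  simp [pow_add, pow_mul', h.neg_one_pow]

theorem wr_not_le {J : Type*} [Fintype J] [Nonempty J] (ι : J × ZMod 2 ↪ α)
    (Q : Subgroup (Perm J)) : ¬ wr ι Q ≤ alternatingGroup α := fun h =>
  swap_not_mem_alternatingGroup (by simp) (h (swap_mem_wr ι Q (Classical.arbitrary J)))

theorem res_eq_of_ne [Nontrivial α] {θ : IrrCharacter (alternatingGroup α)}
    (h : Om.Over (alternatingGroup α).subtype (χ : Perm α → ℂ) θ) {g : Perm α}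
    (hg : g ∉ alternatingGroup α) (h0 : (χ : Perm α → ℂ) g ≠ 0) :
    (fun n : alternatingGroup α => (χ : Perm α → ℂ) n) = θ :=
  (res_cases alternatingGroup.index_eq_two χ.2 θ.2 (Om.over_subtype_iff.1 h)).resolve_right
    fun e => h0 (e.1 g hg)

theorem two_mul_le_of_sect (hM : IsPModular 2 M) (hB : IsPBlock M B) (hχ : χ ∈ B) (h : IsLab χ β)
    (hw : wt 2 β = w) {P : Subgroup (Perm α)} (hP : IsDefectGroup 2 M B P)
    (hD : P ⊓ alternatingGroup α = D.map (alternatingGroup α).subtype) {s : ℕ}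
    (hs : SectionalPRankLE 2 s D) : 2 * (w / 2) ≤ s := by
  obtain ⟨ι⟩ := h.exists_emb (p := 2) (J := Fin w) (by simpa)
  obtain ⟨e⟩ : Nonempty (Fin (w / 2) × (ZMod 2 × ZMod 2) ↪ Fin w × ZMod 2) :=
    Function.Embedding.nonempty_of_card_le (by simp; omega)
  obtain ⟨g, hg⟩ := exists_conj_le_defect hM hB hχ h ι (by simpa) hP (R := wr (e.trans ι) ⊥)
    (IsPGroup.of_card (n := 2 * (w / 2)) (by simp [card_wr, pow_mul])) (by
      rintro _ ⟨σ, -, v, rfl⟩ a ha
      exact wrEmb_apply_of_not_mem _ _ _ fun ⟨_, h⟩ => ha ⟨_, h⟩)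
  have h1 := card_wr_bot_le (p := 2) ((e.trans ι).trans g.toEmbedding) (by decide) hs
    (hD ▸ le_inf ((conj_smul_wr (ι := e.trans ι) g ⊥).ge.trans hg) (by
      rintro _ ⟨_, rfl, v, rfl⟩
      have : ∀ a : ZMod 2 × ZMod 2, Perm.sign (Equiv.addLeft a) = 1 := by decide
      simp [Perm.mem_alternatingGroup, sign_wrEmb, this]))
  rw [← Nat.pow_le_pow_iff_right one_lt_two, pow_mul]
  simpa using h1

end Cfsg.Agent.SnCh
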